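import Mathlib.RingTheory.Ideal.Cotangent
import Mathlib.RingTheory.Derivation.Basic
import Mathlib.RingTheory.Ideal.Maps

/-!
# The cotangent module of a section

For a commutative `R`-algebra `P` and a section `a : P →ₐ[R] R` with kernel `p` we put
`Cot a = p / p ^ 2` and `cd a : P →ₗ[R] Cot a`, `f ↦ f - a f`.
-/

set_option autoImplicit false

namespace Groth.Agent.Sga7.H113.Cot

variable {R : Type*} [CommRing R]
variable {P : Type*} [CommRing P] [Algebra R P]
variable {B : Type*} [CommRing B] [Algebra R B]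

/-- the cotangent module `p / p ^ 2` of a section -/
abbrev Cot (a : P →ₐ[R] R) : Type _ := (RingHom.ker a).Cotangent

theorem sub_mem (a : P →ₐ[R] R) (f : P) : f - algebraMap R P (a f) ∈ RingHom.ker a := by
  rw [RingHom.mem_ker, map_sub, AlgHom.commutes]
  simp

/-- the universal derivation at the section `a` -/
noncomputable def cd (a : P →ₐ[R] R) : P →ₗ[R] Cot a where
  toFun f := (RingHom.ker a).toCotangent ⟨f - algebraMap R P (a f), sub_mem a f⟩
  map_add' f g := by
    rw [← map_add]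
    congr 1
    apply Subtype.ext
    change f + g - algebraMap R P (a (f + g)) =
      (f - algebraMap R P (a f)) + (g - algebraMap R P (a g))
    rw [map_add, map_add]
    ring
  map_smul' r f := by
    rw [RingHom.id_apply, ← LinearMap.map_smul_of_tower]
    congr 1
    apply Subtype.ext
    change r • f - algebraMap R P (a (r • f)) = r • (f - algebraMap R P (a f))
    rw [map_smul, smul_sub, smul_eq_mul, map_mul, ← Algebra.smul_def]

theorem cd_apply (a : P →ₐ[R] R) (f : P) :
    cd a f = (RingHom.ker a).toCotangent ⟨f - algebraMap R P (a f), sub_mem a f⟩ := rfl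

theorem cd_of_mem (a : P →ₐ[R] R) (f : P) (hf : f ∈ RingHom.ker a) :
    cd a f = (RingHom.ker a).toCotangent ⟨f, hf⟩ := by
  rw [cd_apply]
  congr 1
  apply Subtype.ext
  change f - algebraMap R P (a f) = f
  rw [show a f = 0 from hf, map_zero, sub_zero]

theorem exists_cd (a : P →ₐ[R] R) (x : Cot a) : ∃ f : P, a f = 0 ∧ cd a f = x := by
  obtain ⟨⟨f, hf⟩, rfl⟩ := (RingHom.ker a).toCotangent_surjective x
  exact ⟨f, hf, cd_of_mem a f hf⟩

theorem cd_eq_zero_iff (a : P →ₐ[R] R) (f : P) (hf : a f = 0) :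
    cd a f = 0 ↔ f ∈ (RingHom.ker a) ^ 2 := by
  rw [cd_of_mem a f hf, Ideal.toCotangent_eq_zero]

@[simp]
theorem cd_algebraMap (a : P →ₐ[R] R) (r : R) : cd a (algebraMap R P r) = 0 := by
  rw [cd_apply, Ideal.toCotangent_eq_zero]
  simp

theorem cd_mul (a : P →ₐ[R] R) (f g : P) : cd a (f * g) = a f • cd a g + a g • cd a f := by
  simp only [cd_apply, ← LinearMap.map_smul_of_tower, ← map_add]
  rw [Ideal.toCotangent_eq]
  have : (((⟨f * g - algebraMap R P (a (f * g)), sub_mem a _⟩ : RingHom.ker a) : P) -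
      ((a f • (⟨g - algebraMap R P (a g), sub_mem a _⟩ : RingHom.ker a) +
        a g • (⟨f - algebraMap R P (a f), sub_mem a _⟩ : RingHom.ker a) : RingHom.ker a) : P)) =
      (f - algebraMap R P (a f)) * (g - algebraMap R P (a g)) := by
    change f * g - algebraMap R P (a (f * g)) -
      (a f • (g - algebraMap R P (a g)) + a g • (f - algebraMap R P (a f))) = _
    rw [map_mul, map_mul, Algebra.smul_def, Algebra.smul_def]
    ring
  rw [this, pow_two]
  exact Ideal.mul_mem_mul (sub_mem a f) (sub_mem a g)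

/-- functoriality of the cotangent module of a section -/
noncomputable def cotMap (φ : P →ₐ[R] B) (a : P →ₐ[R] R) (b : B →ₐ[R] R)
    (h : ∀ x, b (φ x) = a x) : Cot a →ₗ[R] Cot b :=
  Ideal.mapCotangent _ _ φ (fun x hx => by
    rw [Ideal.mem_comap, RingHom.mem_ker]
    exact (h x).trans hx)

theorem cotMap_cd (φ : P →ₐ[R] B) (a : P →ₐ[R] R) (b : B →ₐ[R] R)
    (h : ∀ x, b (φ x) = a x) (f : P) : cotMap φ a b h (cd a f) = cd b (φ f) := by
  rw [cotMap, cd_apply, Ideal.mapCotangent_toCotangent, cd_apply]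
  congr 1
  apply Subtype.ext
  change φ (f - algebraMap R P (a f)) = φ f - algebraMap R B (b (φ f))
  rw [map_sub, AlgHom.commutes, h]

theorem cotMap_surjective (φ : P →ₐ[R] B) (a : P →ₐ[R] R) (b : B →ₐ[R] R)
    (h : ∀ x, b (φ x) = a x) (hφ : Function.Surjective φ) :
    Function.Surjective (cotMap φ a b h) := by
  intro y
  obtain ⟨f, hf, rfl⟩ := exists_cd b y
  obtain ⟨g, rfl⟩ := hφ f
  exact ⟨cd a g, cotMap_cd φ a b h g⟩

theorem exists_of_cotMap_eq_zero (φ : P →ₐ[R] B) (a : P →ₐ[R] R) (b : B →ₐ[R] R)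
    (h : ∀ x, b (φ x) = a x) (hφ : Function.Surjective φ) (x : Cot a)
    (hx : cotMap φ a b h x = 0) : ∃ g : P, φ g = 0 ∧ cd a g = x := by
  obtain ⟨f, hf, rfl⟩ := exists_cd a x
  rw [cotMap_cd, cd_eq_zero_iff b _ (by rw [h, hf])] at hx
  have hk : RingHom.ker b = (RingHom.ker a).map φ := by
    apply le_antisymm
    · intro y hy
      obtain ⟨g, rfl⟩ := hφ y
      exact Ideal.mem_map_of_mem _ (by rw [RingHom.mem_ker, ← h]; exact hy)
    · rw [Ideal.map_le_iff_le_comap]
      intro g hg
      rw [Ideal.mem_comap, RingHom.mem_ker]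
      exact (h g).trans hg
  rw [hk, ← Ideal.map_pow] at hx
  obtain ⟨y, hy, hyf⟩ := (Ideal.mem_map_iff_of_surjective φ hφ).1 hx
  have hya : a y = 0 := Ideal.pow_le_self two_ne_zero hy
  refine ⟨f - y, by rw [map_sub, hyf, sub_self], ?_⟩
  rw [map_sub, (cd_eq_zero_iff a y hya).2 hy, sub_zero]

/-- a derivation gives a linear form on the cotangent module -/
theorem exists_lin (a : P →ₐ[R] R) (δ : Derivation R P P) :
    ∃ l : Cot a →ₗ[R] R, ∀ f, l (cd a f) = a (δ f) := by
  let t : RingHom.ker a →ₗ[R] Cot a := (RingHom.ker a).toCotangent.restrictScalars R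
  have ht : Function.Surjective t := (RingHom.ker a).toCotangent_surjective
  let f₀ : RingHom.ker a →ₗ[R] R :=
    (a.toLinearMap.comp (δ : P →ₗ[R] P)).comp ((RingHom.ker a).subtype.restrictScalars R)
  have hf₀ : ∀ x, f₀ x = a (δ (x : P)) := fun _ => rfl
  have hle : LinearMap.ker t ≤ LinearMap.ker f₀ := by
    rintro ⟨x, hx⟩ h
    have h1 : x ∈ (RingHom.ker a) ^ 2 := (Ideal.toCotangent_eq_zero _ _).1 h
    rw [LinearMap.mem_ker, hf₀]
    change a (δ x) = 0
    rw [pow_two] at h1
    refine Submodule.mul_induction_on h1 ?_ ?_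
    · intro m hm n hn
      rw [Derivation.leibniz, map_add, smul_eq_mul, smul_eq_mul, map_mul, map_mul,
        show a m = 0 from hm, show a n = 0 from hn, zero_mul, zero_mul, add_zero]
    · intro y z hy hz
      rw [map_add, map_add, hy, hz, add_zero]
  refine ⟨((LinearMap.ker t).liftQ f₀ hle).comp
    (t.quotKerEquivOfSurjective ht).symm.toLinearMap, fun f => ?_⟩
  have h2 : (t.quotKerEquivOfSurjective ht).symm (cd a f) =
      Submodule.Quotient.mk ⟨f - algebraMap R P (a f), sub_mem a f⟩ := by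
    rw [LinearEquiv.symm_apply_eq]
    rfl
  change (LinearMap.ker t).liftQ f₀ hle ((t.quotKerEquivOfSurjective ht).symm (cd a f)) = _
  rw [h2]
  change f₀ _ = _
  rw [hf₀, map_sub, Derivation.map_algebraMap, sub_zero]

end Groth.Agent.Sga7.H113.Cot
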