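import Mathlib.RingTheory.Smooth.Basic
import Mathlib.RingTheory.Kaehler.Polynomial
import Mathlib.RingTheory.Localization.Away.Basic
import Mathlib.RingTheory.Localization.Ideal
import Mathlib.RingTheory.Polynomial.Basic

/-!
# Elementary form of the splitting of the conormal sequence on the generic fibre
-/

set_option autoImplicit false

namespace Groth.Agent.Sga7.H113.Split

open MvPolynomial TensorProduct KaehlerDifferential

variable {R : Type*} [CommRing R] [IsNoetherianRing R] {B : Type*} [CommRing B] [Algebra R B]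
variable {n : ℕ}

local notation "𝔓" => MvPolynomial (Fin n) R

omit [IsNoetherianRing R] in
theorem D_eq_sum (S : Type*) [CommRing S] [Algebra R S] [Algebra 𝔓 S] [IsScalarTower R 𝔓 S]
    (f : 𝔓) : D R S (algebraMap 𝔓 S f) =
      ∑ i, algebraMap 𝔓 S (pderiv i f) • D R S (algebraMap 𝔓 S (X i)) := by
  have h := (KaehlerDifferential.mvPolynomialBasis R (Fin n)).sum_repr (D R 𝔓 f)
  have h2 := congrArg (KaehlerDifferential.map R R 𝔓 S) h
  rw [KaehlerDifferential.map_D] at h2
  rw [← h2, map_sum]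
  refine Finset.sum_congr rfl fun i _ => ?_
  rw [KaehlerDifferential.mvPolynomialBasis_repr_apply, KaehlerDifferential.mvPolynomialBasis_apply,
    LinearMap.map_smul, KaehlerDifferential.map_D, ← IsScalarTower.algebraMap_smul S]

theorem exists_split (π : R)
    (hB : Algebra.FormallySmooth R (Localization.Away (algebraMap R B π)))
    (φ : 𝔓 →ₐ[R] B) (hφ : Function.Surjective φ) :
    ∃ (N : ℕ) (t : Fin n → 𝔓), (∀ i, φ (t i) = 0) ∧ ∀ f, φ f = 0 →
      algebraMap R 𝔓 π ^ N * f - ∑ i, pderiv i f * t i ∈ RingHom.ker φ ^ 2 := by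
  classical
  let p : 𝔓 := algebraMap R 𝔓 π
  let S := Localization.Away p
  let T := Localization.Away (algebraMap R B π)
  have hφp : φ p = algebraMap R B π := φ.commutes π
  let g : 𝔓 →ₐ[R] T := (IsScalarTower.toAlgHom R B T).comp φ
  have hg : ∀ x, g x = algebraMap B T (φ x) := fun x => rfl
  have hu : IsUnit (g p) := by
    rw [hg, hφp]
    exact IsLocalization.Away.algebraMap_isUnit _
  let G : S →ₐ[R] T := IsLocalization.Away.liftAlgHom p hu
  have hG : ∀ x : 𝔓, G (algebraMap 𝔓 S x) = algebraMap B T (φ x) := fun x =>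
    IsLocalization.Away.lift_eq p hu x
  let _ : Algebra S T := G.toRingHom.toAlgebra
  have hGa : ∀ y : S, algebraMap S T y = G y := fun y => rfl
  have _ : IsScalarTower R S T := IsScalarTower.of_algebraMap_eq fun r => (G.commutes r).symm
  have hS : Algebra.FormallySmooth 𝔓 S := .of_isLocalization (Submonoid.powers p)
  have hS' : Algebra.FormallySmooth R S := .comp R 𝔓 S
  have hup : IsUnit (algebraMap 𝔓 S p) := IsLocalization.Away.algebraMap_isUnit p
  have hsurj : Function.Surjective (algebraMap S T) := by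
    intro y
    obtain ⟨m, b, hb⟩ := IsLocalization.Away.surj (algebraMap R B π) y
    obtain ⟨x, rfl⟩ := hφ b
    obtain ⟨u, hu'⟩ := hup.pow m
    refine ⟨algebraMap 𝔓 S x * (↑u⁻¹ : S), ?_⟩
    rw [map_mul, hGa, hG, ← hb]
    have hT : algebraMap B T (algebraMap R B π) = algebraMap S T (algebraMap 𝔓 S p) := by
      rw [hGa, hG]
      exact congrArg _ hφp.symm
    have h1 : algebraMap S T (↑u⁻¹ : S) * (algebraMap B T (algebraMap R B π)) ^ m = 1 := by
      rw [hT, ← map_pow, ← map_mul, ← hu', Units.inv_mul, map_one]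
    rw [mul_assoc, mul_comm (_ ^ m), h1, mul_one]
  let K : Ideal S := RingHom.ker (algebraMap S T)
  have hK : K = RingHom.ker (algebraMap S T) := rfl
  let I : Ideal 𝔓 := RingHom.ker φ
  obtain ⟨l, hl⟩ : ∃ l : T ⊗[S] Ω[S⁄R] →ₗ[S] K.Cotangent,
      l ∘ₗ (kerCotangentToTensor R S T) = LinearMap.id :=
    (Algebra.FormallySmooth.iff_split_injection (R := R) (P := S) hsurj).1 hB
  have hKI : K = I.map (algebraMap 𝔓 S) := by
    apply le_antisymm
    · intro y hy
      obtain ⟨m, x, hx⟩ := IsLocalization.Away.surj p y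
      have h1 : algebraMap B T (φ x) = algebraMap B T 0 := by
        rw [← hG, ← hx, map_zero, map_mul, ← hGa, (RingHom.mem_ker).1 hy, zero_mul]
      obtain ⟨m', hm'⟩ := IsLocalization.Away.exists_of_eq (algebraMap R B π) h1
      rw [mul_zero, ← hφp, ← map_pow, ← map_mul] at hm'
      have h2 : algebraMap 𝔓 S (p ^ m' * x) ∈ I.map (algebraMap 𝔓 S) :=
        Ideal.mem_map_of_mem _ hm'
      rw [map_mul, ← hx, map_pow] at h2
      have h3 := (Ideal.unit_mul_mem_iff_mem _ (hup.pow m')).1 h2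
      rw [mul_comm] at h3
      exact (Ideal.unit_mul_mem_iff_mem _ (hup.pow m)).1 h3
    · rw [Ideal.map_le_iff_le_comap]
      intro x hx
      rw [Ideal.mem_comap, hK, RingHom.mem_ker, hGa, hG]
      have : φ x = 0 := hx
      rw [this, map_zero]
  -- the elements `τ`
  have hτ : ∀ i : Fin n, ∃ τ : K, K.toCotangent τ = l (1 ⊗ₜ D R S (algebraMap 𝔓 S (X i))) :=
    fun i => K.toCotangent_surjective _
  choose τ hτ using hτ
  have ht : ∀ i, ∃ (t : 𝔓) (m : ℕ), t ∈ I ∧ (τ i : S) * algebraMap 𝔓 S (p ^ m)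
      = algebraMap 𝔓 S t := by
    intro i
    have h1 : (τ i : S) ∈ I.map (algebraMap 𝔓 S) := hKI ▸ (τ i).2
    rw [IsLocalization.mem_map_algebraMap_iff (Submonoid.powers p)] at h1
    obtain ⟨⟨⟨a, ha⟩, ⟨s, m, hs⟩⟩, h5⟩ := h1
    refine ⟨a, m, ha, ?_⟩
    simp only at hs h5
    rw [hs]
    exact h5
  choose t m htI ht using ht
  let N := ∑ i, m i
  let t' : Fin n → 𝔓 := fun i => p ^ (N - m i) * t i
  have ht'I : ∀ i, t' i ∈ I := fun i => I.mul_mem_left _ (htI i)
  have ht' : ∀ i, (τ i : S) * algebraMap 𝔓 S (p ^ N) = algebraMap 𝔓 S (t' i) := by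
    intro i
    have h1 : N = (N - m i) + m i :=
      (Nat.sub_add_cancel (Finset.single_le_sum (fun _ _ => Nat.zero_le _)
        (Finset.mem_univ i))).symm
    rw [h1, pow_add, map_mul, mul_left_comm, ht, ← map_mul]
  -- the main relation
  have key : ∀ f ∈ I, ∃ k : ℕ, p ^ k * (p ^ N * f - ∑ i, pderiv i f * t' i) ∈ I ^ 2 := by
    intro f hf
    have hfK : algebraMap 𝔓 S f ∈ K := by
      rw [hKI]; exact Ideal.mem_map_of_mem _ hf
    have h1 := LinearMap.congr_fun hl (K.toCotangent ⟨_, hfK⟩)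
    rw [LinearMap.comp_apply, LinearMap.id_apply] at h1
    have h1' : l (kerCotangentToTensor R S T (K.toCotangent ⟨_, hfK⟩))
        = l (1 ⊗ₜ D R S (algebraMap 𝔓 S f)) := rfl
    rw [h1', D_eq_sum, TensorProduct.tmul_sum, map_sum] at h1
    have h2 : ∀ i, l ((1 : T) ⊗ₜ[S] (algebraMap 𝔓 S (pderiv i f) • D R S (algebraMap 𝔓 S (X i))))
        = K.toCotangent (algebraMap 𝔓 S (pderiv i f) • τ i) := by
      intro i
      rw [TensorProduct.tmul_smul, map_smul, map_smul, hτ]
    rw [Finset.sum_congr rfl fun i _ => h2 i, ← map_sum, eq_comm, Ideal.toCotangent_eq] at h1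
    have h3 : algebraMap 𝔓 S f - ∑ i, algebraMap 𝔓 S (pderiv i f) * (τ i : S) ∈ K ^ 2 := by
      have h3' : ((∑ i, algebraMap 𝔓 S (pderiv i f) • τ i : K) : S)
          = ∑ i, algebraMap 𝔓 S (pderiv i f) * (τ i : S) := by
        rw [AddSubmonoidClass.coe_finsetSum]
        rfl
      rw [← h3']
      exact h1
    have h4 : algebraMap 𝔓 S (p ^ N * f - ∑ i, pderiv i f * t' i) ∈ K ^ 2 := by
      have h5 : algebraMap 𝔓 S (p ^ N * f - ∑ i, pderiv i f * t' i)
          = algebraMap 𝔓 S (p ^ N) *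
            (algebraMap 𝔓 S f - ∑ i, algebraMap 𝔓 S (pderiv i f) * (τ i : S)) := by
        rw [map_sub, map_mul, map_sum, mul_sub, Finset.mul_sum]
        congr 1
        refine Finset.sum_congr rfl fun i _ => ?_
        rw [map_mul, ← ht']
        ring
      rw [h5]
      exact Ideal.mul_mem_left _ _ h3
    rw [hKI, ← Ideal.map_pow, IsLocalization.mem_map_algebraMap_iff (Submonoid.powers p)] at h4
    obtain ⟨⟨⟨a, ha⟩, ⟨s, k, hs⟩⟩, h5⟩ := h4
    simp only at hs h5
    rw [← map_mul] at h5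
    obtain ⟨k', hk'⟩ := IsLocalization.Away.exists_of_eq p h5
    refine ⟨k' + k, ?_⟩
    have h6 : p ^ (k' + k) * (p ^ N * f - ∑ i, pderiv i f * t' i) = p ^ k' * a := by
      rw [← hk', pow_add, ← hs]
      ring
    rw [h6]
    exact Ideal.mul_mem_left _ _ ha
  -- uniformity
  obtain ⟨s, hs⟩ := IsNoetherian.noetherian I
  have hsI : ∀ x ∈ s, x ∈ I := fun x hx => hs ▸ Ideal.subset_span hx
  choose! k hk using key
  let M := ∑ x ∈ s, k x
  have huni : ∀ f ∈ I, p ^ M * (p ^ N * f - ∑ i, pderiv i f * t' i) ∈ I ^ 2 := by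
    intro f hf
    have hf' : f ∈ Submodule.span 𝔓 (s : Set 𝔓) := by rw [hs]; exact hf
    refine Submodule.span_induction
      (p := fun f _ => p ^ M * (p ^ N * f - ∑ i, pderiv i f * t' i) ∈ I ^ 2) ?_ ?_ ?_ ?_ hf'
    · intro x hx
      have h1 : M = (M - k x) + k x :=
        (Nat.sub_add_cancel (Finset.single_le_sum (fun _ _ => Nat.zero_le _) hx)).symm
      rw [h1, pow_add, mul_assoc]
      exact Ideal.mul_mem_left _ _ (hk x (hsI x hx))
    · simp
    · intro x y _ _ hx hy
      have : p ^ M * (p ^ N * (x + y) - ∑ i, pderiv i (x + y) * t' i)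
          = p ^ M * (p ^ N * x - ∑ i, pderiv i x * t' i) +
            p ^ M * (p ^ N * y - ∑ i, pderiv i y * t' i) := by
        simp only [map_add, add_mul, Finset.sum_add_distrib]
        ring
      rw [this]
      exact Ideal.add_mem _ hx hy
    · intro r x hx' hx
      have hxI : x ∈ I := hs ▸ hx'
      have : p ^ M * (p ^ N * (r • x) - ∑ i, pderiv i (r • x) * t' i)
          = r * (p ^ M * (p ^ N * x - ∑ i, pderiv i x * t' i)) -
            p ^ M * ∑ i, pderiv i r * (x * t' i) := by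
        have h1 : ∑ i, pderiv i (r • x) * t' i
            = r * ∑ i, pderiv i x * t' i + ∑ i, pderiv i r * (x * t' i) := by
          rw [Finset.mul_sum, ← Finset.sum_add_distrib]
          refine Finset.sum_congr rfl fun i _ => ?_
          rw [smul_eq_mul, Derivation.leibniz, smul_eq_mul, smul_eq_mul]
          ring
        rw [h1, smul_eq_mul]
        ring
      rw [this]
      refine Ideal.sub_mem _ (Ideal.mul_mem_left _ _ hx) (Ideal.mul_mem_left _ _
        (Ideal.sum_mem _ fun i _ => Ideal.mul_mem_left _ _ ?_))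
      rw [pow_two]
      exact Ideal.mul_mem_mul hxI (ht'I i)
  refine ⟨M + N, fun i => p ^ M * t' i, fun i => I.mul_mem_left _ (ht'I i), fun f hf => ?_⟩
  have h1 : algebraMap R 𝔓 π ^ (M + N) * f - ∑ i, pderiv i f * (p ^ M * t' i)
      = p ^ M * (p ^ N * f - ∑ i, pderiv i f * t' i) := by
    rw [mul_sub, Finset.mul_sum, pow_add, mul_assoc]
    congr 1
    exact Finset.sum_congr rfl fun i _ => by ring
  rw [h1]
  exact huni f hf

end Groth.Agent.Sga7.H113.Split
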