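import Groth.Agent.Sga7.H113.Lattice
import Groth.Agent.Sga7.H113.Cot
import Groth.Agent.Sga7.H113.Split

/-!
# Uniform bound of Néron's measure for the defect of smoothness
-/

set_option autoImplicit false

namespace Groth.Agent.Sga7.H113.Bound

open MvPolynomial Groth.Agent.Sga7.H113.Cot Groth.Agent.Sga7.H113.Lattice

section Poly

variable {R : Type*} [CommRing R] {n : ℕ}

local notation "𝔓" => MvPolynomial (Fin n) R

theorem cd_eq_sum (a : 𝔓 →ₐ[R] R) (f : 𝔓) :
    cd a f = ∑ i, a (pderiv i f) • cd a (X i) := by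
  classical
  induction f using MvPolynomial.induction_on with
  | C r =>
    have h1 : cd a (C r) = 0 := cd_algebraMap a r
    rw [h1]
    simp
  | add p q hp hq =>
    rw [map_add, hp, hq, ← Finset.sum_add_distrib]
    refine Finset.sum_congr rfl fun i _ => ?_
    rw [map_add, map_add, add_smul]
  | mul_X p i hp =>
    rw [cd_mul]
    have h1 : ∀ j, a (pderiv j (p * X i)) • cd a (X j)
        = (if j = i then a p • cd a (X i) else 0) + a (X i) • (a (pderiv j p) • cd a (X j)) := by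
      intro j
      rw [Derivation.leibniz, smul_eq_mul, smul_eq_mul, pderiv_X, map_add, map_mul, map_mul,
        add_smul, smul_smul]
      congr 1
      by_cases hij : j = i
      · subst hij
        simp
      · rw [if_neg hij, Pi.single_eq_of_ne (Ne.symm hij)]
        simp
    rw [Finset.sum_congr rfl fun j _ => h1 j, Finset.sum_add_distrib, ← Finset.smul_sum, ← hp,
      Finset.sum_ite_eq' Finset.univ i, if_pos (Finset.mem_univ i)]

theorem finite_cot (a : 𝔓 →ₐ[R] R) : Module.Finite R (Cot a) := by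
  refine Module.Finite.of_surjective (Fintype.linearCombination R (fun i => cd a (X i)))
    (fun x => ?_)
  obtain ⟨f, -, rfl⟩ := exists_cd a x
  exact ⟨fun i => a (pderiv i f), by rw [Fintype.linearCombination_apply, ← cd_eq_sum]⟩

theorem exists_dual (a : 𝔓 →ₐ[R] R) : ∃ l : Fin n → (Cot a →ₗ[R] R),
    (∀ i f, l i (cd a f) = a (pderiv i f)) ∧ ∀ x, x = ∑ i, l i x • cd a (X i) := by
  choose l hl using fun i : Fin n => exists_lin a (pderiv i)
  refine ⟨l, hl, fun x => ?_⟩
  obtain ⟨f, -, rfl⟩ := exists_cd a x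
  rw [cd_eq_sum a f]
  conv_rhs => rw [← cd_eq_sum a f]
  exact Finset.sum_congr rfl fun i _ => by rw [hl]

theorem torsionfree [IsDomain R] {π : R} (hπ : π ≠ 0) (a : 𝔓 →ₐ[R] R) (x : Cot a)
    (hx : π • x = 0) : x = 0 := by
  obtain ⟨l, -, hl⟩ := exists_dual a
  rw [hl x]
  refine Finset.sum_eq_zero fun i _ => ?_
  have h1 : π * l i x = 0 := by
    rw [← smul_eq_mul, ← map_smul, hx, map_zero]
  rw [(mul_eq_zero.1 h1).resolve_left hπ, zero_smul]

end Poly

variable {R : Type*} [CommRing R] [IsDomain R] [IsDiscreteValuationRing R] {n : ℕ}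
variable {B : Type*} [CommRing B] [Algebra R B]

local notation "𝔓" => MvPolynomial (Fin n) R

theorem pow_smul_eq_zero {π : R} (hπ : π ≠ 0) (φ : 𝔓 →ₐ[R] B) (hφ : Function.Surjective φ)
    (N : ℕ) (t : Fin n → 𝔓) (ht : ∀ i, φ (t i) = 0)
    (htf : ∀ f, φ f = 0 → algebraMap R 𝔓 π ^ N * f - ∑ i, pderiv i f * t i ∈ RingHom.ker φ ^ 2)
    (b : B →ₐ[R] R) (x : Cot b) (M : ℕ) (hx : π ^ M • x = 0) : π ^ N • x = 0 := by
  let a : 𝔓 →ₐ[R] R := b.comp φ
  have hab : ∀ x, b (φ x) = a x := fun x => rfl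
  obtain ⟨y, rfl⟩ := cotMap_surjective φ a b hab hφ x
  rw [← map_smul] at hx
  obtain ⟨f, hf, hfy⟩ := exists_of_cotMap_eq_zero φ a b hab hφ _ hx
  obtain ⟨l, hl, -⟩ := exists_dual a
  have ha : ∀ g, φ g = 0 → a g = 0 := fun g hg => by rw [← hab, hg, map_zero]
  -- `∑ l i (cd f) • cd (t i) = π ^ N • cd f`
  have h1 : ∀ g, φ g = 0 → ∑ i, l i (cd a g) • cd a (t i) = π ^ N • cd a g := by
    intro g hg
    have h2 : cd a (algebraMap R 𝔓 π ^ N * g - ∑ i, pderiv i g * t i) = 0 := by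
      have h3 : a (algebraMap R 𝔓 π ^ N * g - ∑ i, pderiv i g * t i) = 0 := by
        rw [map_sub, map_mul, map_sum, ha g hg, mul_zero, zero_sub, neg_eq_zero]
        exact Finset.sum_eq_zero fun i _ => by rw [map_mul, ha _ (ht i), mul_zero]
      rw [cd_eq_zero_iff a _ h3]
      have h4 : RingHom.ker φ ^ 2 ≤ RingHom.ker a ^ 2 :=
        Ideal.pow_right_mono (fun g hg => ha g hg) 2
      exact h4 (htf g hg)
    rw [map_sub, sub_eq_zero, map_sum, cd_mul, ha g hg, zero_smul, add_zero, ← map_pow,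
      AlgHom.commutes] at h2
    have h3 : (algebraMap R R) (π ^ N) • cd a g = π ^ N • cd a g := rfl
    rw [h3] at h2
    rw [h2]
    refine Finset.sum_congr rfl fun i _ => ?_
    rw [cd_mul, ha _ (ht i), zero_smul, add_zero, hl]
  -- hence `π ^ N • y = ∑ l i y • cd (t i)`
  have h2 : π ^ M • (π ^ N • y - ∑ i, l i y • cd a (t i)) = 0 := by
    rw [smul_sub, smul_comm, ← hfy, ← h1 f hf, sub_eq_zero, Finset.smul_sum]
    refine Finset.sum_congr rfl fun i _ => ?_
    rw [smul_smul, hfy, map_smul, smul_eq_mul]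
  have h3 := torsionfree (pow_ne_zero M hπ) a _ h2
  rw [sub_eq_zero] at h3
  rw [← map_smul, h3, map_sum]
  refine Finset.sum_eq_zero fun i _ => ?_
  rw [map_smul, cotMap_cd, ht i, map_zero, smul_zero]

theorem exists_bound {π : R} (hπ : Irreducible π)
    (hB : Algebra.FormallySmooth R (Localization.Away (algebraMap R B π)))
    (φ : 𝔓 →ₐ[R] B) (hφ : Function.Surjective φ) :
    ∃ C : ℕ, ∀ b : B →ₐ[R] R, tlen R (Cot b) ≤ C := by
  obtain ⟨N, t, ht, htf⟩ := Split.exists_split π hB φ hφ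
  obtain ⟨C, hC⟩ := tlen_le_of_killed (R := R) hπ n N
  refine ⟨C, fun b => ?_⟩
  have hs : Function.Surjective ((cotMap φ (b.comp φ) b fun x => rfl) ∘ₗ
      Fintype.linearCombination R (fun i => cd (b.comp φ) (X i))) := by
    rw [LinearMap.coe_comp]
    refine (cotMap_surjective φ (b.comp φ) b (fun x => rfl) hφ).comp fun x => ?_
    obtain ⟨f, -, rfl⟩ := exists_cd (b.comp φ) x
    exact ⟨fun i => (b.comp φ) (pderiv i f), by
      rw [Fintype.linearCombination_apply, ← cd_eq_sum]⟩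
  refine hC (Cot b) _ hs fun x hx => ?_
  obtain ⟨M, hM⟩ := (mem_torsion_iff_pow hπ x).1 hx
  exact pow_smul_eq_zero hπ.ne_zero φ hφ N t ht htf b x M hM

end Groth.Agent.Sga7.H113.Bound
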