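import Mathlib.RingTheory.Localization.Away.Basic
import Mathlib.RingTheory.FiniteType
import Mathlib.RingTheory.DiscreteValuationRing.Basic
import Mathlib.RingTheory.Smooth.Basic
import Mathlib.RingTheory.Localization.FractionRing

/-!
# Dilatations of affine algebras over a discrete valuation ring
-/

set_option autoImplicit false

namespace Groth.Agent.Sga7.H113.Dilat

universe u

variable {R : Type u} [CommRing R] {B : Type u} [CommRing B] [Algebra R B]
variable (π : R) (η : B) {c : Type} (z : c → B)

/-- The localization `B[1/(π η)]`. -/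
abbrev Loc := Localization.Away (algebraMap R B π * η)

/-- the element `x / π` -/
noncomputable def wL (x : B) : Loc π η :=
  algebraMap B _ (x * η) * IsLocalization.Away.invSelf (algebraMap R B π * η)

/-- the element `1 / η` -/
noncomputable def vL : Loc π η :=
  algebraMap B _ (algebraMap R B π) * IsLocalization.Away.invSelf (algebraMap R B π * η)

theorem algebraMap_mul_wL (x : B) :
    algebraMap R (Loc π η) π * wL π η x = algebraMap B (Loc π η) x := by
  have h := IsLocalization.Away.mul_invSelf (S := Loc π η) (algebraMap R B π * η)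
  rw [map_mul] at h
  rw [wL, IsScalarTower.algebraMap_apply R B (Loc π η), map_mul]
  calc _ = algebraMap B (Loc π η) x * (algebraMap B (Loc π η) (algebraMap R B π) *
      algebraMap B (Loc π η) η * IsLocalization.Away.invSelf (algebraMap R B π * η)) := by ring
    _ = _ := by rw [h, mul_one]

theorem vL_mul : vL π η * algebraMap B (Loc π η) η = 1 := by
  have h := IsLocalization.Away.mul_invSelf (S := Loc π η) (algebraMap R B π * η)
  rw [map_mul] at h
  rw [vL, ← h]
  ring

theorem isUnit_pi : IsUnit (algebraMap R (Loc π η) π) := by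
  have h := IsLocalization.Away.algebraMap_isUnit (S := Loc π η) (algebraMap R B π * η)
  rw [map_mul, ← IsScalarTower.algebraMap_apply] at h
  exact isUnit_of_mul_isUnit_left h

/-- generators of the dilatation -/
def gens : Set (Loc π η) :=
  Set.range (algebraMap B (Loc π η)) ∪ Set.range (fun j => wL π η (z j)) ∪ {vL π η}

/-- The dilatation `B[z/π, 1/η]` -/
noncomputable def Dil : Subalgebra R (Loc π η) := Algebra.adjoin R (gens π η z)

theorem algebraMap_mem (x : B) : algebraMap B (Loc π η) x ∈ Dil π η z :=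
  Algebra.subset_adjoin (Or.inl (Or.inl ⟨x, rfl⟩))

theorem wL_mem (j : c) : wL π η (z j) ∈ Dil π η z :=
  Algebra.subset_adjoin (Or.inl (Or.inr ⟨j, rfl⟩))

theorem vL_mem : vL π η ∈ Dil π η z :=
  Algebra.subset_adjoin (Or.inr rfl)

/-- the map from `B` to the dilatation -/
noncomputable def chi : B →ₐ[R] Dil π η z :=
  (IsScalarTower.toAlgHom R B (Loc π η)).codRestrict _ (algebraMap_mem π η z)

theorem coe_chi (x : B) : ((chi π η z x : Dil π η z) : Loc π η) = algebraMap B (Loc π η) x := rfl

/-- the element `z j / π` of the dilatation -/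
noncomputable def w (j : c) : Dil π η z := ⟨wL π η (z j), wL_mem π η z j⟩

/-- the inverse of `η` in the dilatation -/
noncomputable def v : Dil π η z := ⟨vL π η, vL_mem π η z⟩

theorem pi_mul_w (j : c) : algebraMap R (Dil π η z) π * w π η z j = chi π η z (z j) :=
  Subtype.ext (algebraMap_mul_wL π η (z j))

theorem v_mul : v π η z * chi π η z η = 1 := Subtype.ext (vL_mul π η)

theorem isUnit_chi : IsUnit (chi π η z η) :=
  ⟨⟨chi π η z η, v π η z, (mul_comm _ _).trans (v_mul π η z), v_mul π η z⟩, rfl⟩

theorem pi_regular (x : Dil π η z) (hx : algebraMap R (Dil π η z) π * x = 0) : x = 0 := by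
  have h1 : algebraMap R (Loc π η) π * (x : Loc π η) = 0 := congrArg Subtype.val hx
  exact Subtype.ext ((isUnit_pi π η).mul_right_eq_zero.1 h1)

theorem exists_of_chi_eq_zero (x : B) (hx : chi π η z x = 0) :
    ∃ n : ℕ, η ^ n * algebraMap R B π ^ n * x = 0 := by
  have h1 : algebraMap B (Loc π η) x = algebraMap B (Loc π η) 0 := by
    rw [map_zero]; exact congrArg Subtype.val hx
  obtain ⟨n, hn⟩ := IsLocalization.Away.exists_of_eq (algebraMap R B π * η) h1
  refine ⟨n, ?_⟩
  rw [mul_zero, mul_pow] at hn
  rw [mul_comm (η ^ n)]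
  exact hn

theorem exists_mul_eq (y : Dil π η z) :
    ∃ (n : ℕ) (x : B), chi π η z η ^ n * algebraMap R (Dil π η z) π ^ n * y = chi π η z x := by
  obtain ⟨n, x, hx⟩ := IsLocalization.Away.surj (algebraMap R B π * η) (y : Loc π η)
  refine ⟨n, x, Subtype.ext ?_⟩
  rw [coe_chi, ← hx, map_mul, mul_pow, ← IsScalarTower.algebraMap_apply]
  change algebraMap B (Loc π η) η ^ n * algebraMap R (Loc π η) π ^ n * (y : Loc π η) = _
  ring

theorem adjoin_eq_top :
    Algebra.adjoin R (Set.range (chi π η z) ∪ Set.range (w π η z) ∪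
      {y | y * chi π η z η = 1}) = ⊤ := by
  have h0 : Algebra.adjoin R ((Subtype.val : Dil π η z → Loc π η) ⁻¹' (gens π η z)) = ⊤ :=
    Algebra.adjoin_adjoin_coe_preimage (R := R) (s := gens π η z)
  rw [eq_top_iff]
  refine (le_of_eq h0.symm).trans (Algebra.adjoin_mono ?_)
  rintro ⟨y, hy⟩ hy'
  rcases hy' with (⟨x, hx⟩ | ⟨j, hj⟩) | h
  · exact Or.inl (Or.inl ⟨x, Subtype.ext hx⟩)
  · exact Or.inl (Or.inr ⟨j, Subtype.ext hj⟩)
  · refine Or.inr ?_
    have h' : y = vL π η := h
    exact Subtype.ext (by
      change y * algebraMap B (Loc π η) η = 1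
      rw [h', vL_mul])

instance finiteType [Finite c] [Algebra.FiniteType R B] : Algebra.FiniteType R (Dil π η z) := by
  obtain ⟨s, hs⟩ := (inferInstance : Algebra.FiniteType R B).out
  rw [← Subalgebra.fg_iff_finiteType]
  have h1 : (((algebraMap B (Loc π η)) '' (s : Set B)) ∪ Set.range (fun j => wL π η (z j)) ∪
      {vL π η}).Finite :=
    ((s.finite_toSet.image _).union (Set.finite_range _)).union (Set.finite_singleton _)
  rw [Subalgebra.fg_def]
  refine ⟨_, h1, ?_⟩
  apply le_antisymm
  · apply Algebra.adjoin_mono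
    refine Set.union_subset_union_left _ (Set.union_subset_union_left _ ?_)
    rintro _ ⟨x, _, rfl⟩
    exact ⟨x, rfl⟩
  · apply Algebra.adjoin_le
    rintro y ((⟨x, rfl⟩ | ⟨j, rfl⟩) | h)
    · have h2 : x ∈ Algebra.adjoin R (s : Set B) := by rw [hs]; trivial
      have h3 : algebraMap B (Loc π η) x ∈
          (Algebra.adjoin R (s : Set B)).map (IsScalarTower.toAlgHom R B (Loc π η)) :=
        ⟨x, h2, rfl⟩
      rw [AlgHom.map_adjoin] at h3
      exact Algebra.adjoin_mono (fun y hy => Or.inl (Or.inl hy)) h3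
    · exact Algebra.subset_adjoin (Or.inl (Or.inr ⟨j, rfl⟩))
    · exact Algebra.subset_adjoin (Or.inr h)

instance isLocalization : IsLocalization.Away (algebraMap R (Dil π η z) π) (Loc π η) := by
  refine IsLocalization.Away.mk _ (isUnit_pi π η) ?_ ?_
  · intro y
    obtain ⟨n, x, hx⟩ := IsLocalization.Away.surj (algebraMap R B π * η) y
    refine ⟨n, v π η z ^ n * chi π η z x, ?_⟩
    change y * algebraMap R (Loc π η) π ^ n = vL π η ^ n * algebraMap B (Loc π η) x
    rw [← hx, map_mul, mul_pow, ← IsScalarTower.algebraMap_apply]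
    have : vL π η ^ n * algebraMap B (Loc π η) η ^ n = 1 := by
      rw [← mul_pow, vL_mul, one_pow]
    calc _ = (y * algebraMap R (Loc π η) π ^ n) * (vL π η ^ n * algebraMap B (Loc π η) η ^ n) := by
          rw [this, mul_one]
      _ = _ := by ring
  · intro a b h
    exact ⟨0, by rw [Subtype.ext h]⟩

/-- Lifting of points to the dilatation. -/
theorem exists_lift [IsDomain R] (hπ : π ≠ 0) (a : B →ₐ[R] R) (hη : IsUnit (a η))
    (hz : ∀ j, π ∣ a (z j)) :
    ∃ a' : Dil π η z →ₐ[R] R, ∀ x, a' (chi π η z x) = a x := by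
  let K := FractionRing R
  have hinj : Function.Injective (algebraMap R K) := IsFractionRing.injective R K
  have hu : IsUnit (((Algebra.ofId R K).comp a : B →ₐ[R] K) (algebraMap R B π * η)) := by
    rw [isUnit_iff_ne_zero, AlgHom.comp_apply, map_mul, AlgHom.commutes]
    intro h
    have h1 : algebraMap R R π * a η = 0 := hinj (by rw [map_zero]; exact h)
    exact (mul_ne_zero hπ hη.ne_zero) h1
  let aL : Loc π η →ₐ[R] K := IsLocalization.Away.liftAlgHom (algebraMap R B π * η) hu
  have haL : ∀ x : B, aL (algebraMap B _ x) = algebraMap R K (a x) := fun x =>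
    IsLocalization.Away.lift_eq (algebraMap R B π * η) hu x
  have hle : Dil π η z ≤ (⊥ : Subalgebra R K).comap aL := by
    apply Algebra.adjoin_le
    rintro y ((⟨x, rfl⟩ | ⟨j, rfl⟩) | h)
    · change aL _ ∈ (⊥ : Subalgebra R K)
      rw [haL]
      exact Subalgebra.algebraMap_mem _ _
    · change aL (wL π η (z j)) ∈ (⊥ : Subalgebra R K)
      obtain ⟨r, hr⟩ := hz j
      have h1 := congrArg aL (algebraMap_mul_wL π η (z j))
      rw [map_mul, AlgHom.commutes, haL, hr, map_mul] at h1
      have h2 : algebraMap R K π ≠ 0 := by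
        intro h
        exact hπ (hinj (by rw [map_zero]; exact h))
      rw [mul_left_cancel₀ h2 h1]
      exact Subalgebra.algebraMap_mem _ _
    · have h' : y = vL π η := h
      change aL y ∈ (⊥ : Subalgebra R K)
      rw [h']
      obtain ⟨u, hu'⟩ := hη
      have h1 := congrArg aL (vL_mul π η)
      rw [map_mul, haL, map_one, ← hu'] at h1
      have h2 : aL (vL π η) = algebraMap R K (↑u⁻¹ : R) := by
        calc aL (vL π η) = aL (vL π η) * (algebraMap R K u * algebraMap R K (↑u⁻¹ : R)) := by
              rw [← map_mul, Units.mul_inv, map_one, mul_one]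
          _ = _ := by rw [← mul_assoc, h1, one_mul]
      rw [h2]
      exact Subalgebra.algebraMap_mem _ _
  let e := Algebra.botEquivOfInjective (R := R) (A := K) hinj
  let a₁ : Dil π η z →ₐ[R] (⊥ : Subalgebra R K) :=
    (aL.comp (Dil π η z).val).codRestrict _ (fun y => hle y.2)
  refine ⟨(e : _ →ₐ[R] R).comp a₁, fun x => ?_⟩
  have h1 : a₁ (chi π η z x) = e.symm (a x) := by
    apply Subtype.ext
    change aL (algebraMap B _ x) = _
    rw [haL]
    have : e.symm (a x) = algebraMap R (⊥ : Subalgebra R K) (a x) := e.symm.commutes (a x)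
    rw [this]
    rfl
  change e (a₁ (chi π η z x)) = a x
  rw [h1, AlgEquiv.apply_symm_apply]

end Groth.Agent.Sga7.H113.Dilat
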