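import Groth.Agent.Sga7.H113.Lattice
import Groth.Agent.Sga7.H113.Cot

/-!
# Néron smoothening: the measure drops under a dilatation (pointwise form)
-/

set_option autoImplicit false

namespace Groth.Agent.Sga7.H113.Drop

open Groth.Agent.Sga7.H113.Cot Groth.Agent.Sga7.H113.Lattice

variable {R : Type*} [CommRing R] [IsDomain R] [IsDiscreteValuationRing R]
variable {P : Type*} [CommRing P] [Algebra R P]
variable {B : Type*} [CommRing B] [Algebra R B]
variable {B' : Type*} [CommRing B'] [Algebra R B']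

/-- independence modulo `π` detected by derivations -/
theorem dvd_of_sum {π : R} {ι : Type*} [Fintype ι] [DecidableEq ι]
    (a : P →ₐ[R] R) (z : ι → P) (δ : ι → Derivation R P P) (η : R) (hη : IsUnit η)
    (hδ : ∀ i j, π ∣ a (δ i (z j)) - (if i = j then η else 0))
    (r : ι → R) (x : Cot a) (h : ∑ j, r j • cd a (z j) = π • x) (i : ι) : π ∣ r i := by
  obtain ⟨l, hl⟩ := exists_lin a (δ i)
  have h1 := congrArg l h
  rw [map_sum, map_smul, smul_eq_mul] at h1
  simp only [map_smul, hl, smul_eq_mul] at h1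
  have h2 : π ∣ ∑ j, r j * (a (δ i (z j)) - (if i = j then η else 0)) :=
    Finset.dvd_sum fun j _ => Dvd.dvd.mul_left (hδ i j) _
  have h3 : ∑ j, r j * (a (δ i (z j)) - (if i = j then η else 0)) = π * l x - r i * η := by
    rw [← h1]
    simp only [mul_sub, Finset.sum_sub_distrib]
    congr 1
    simp
  rw [h3] at h2
  have h4 : π ∣ r i * η := by
    have := dvd_sub (Dvd.intro _ rfl : π ∣ π * l x) h2
    rwa [sub_sub_cancel] at this
  exact (hη.dvd_mul_right).1 h4

/-- A submodule of `Cot a` spanned by `cd a (g j)` is `π`-saturated if the `g j` are independent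
modulo `π`. -/
theorem span_saturated {π : R} (hπ : Irreducible π) {ι : Type*} [Fintype ι] [DecidableEq ι]
    (a : P →ₐ[R] R) (htf : ∀ x : Cot a, π • x = 0 → x = 0)
    (g : ι → P) (ε : ι → Derivation R P P) (η : R) (hη : IsUnit η)
    (hε : ∀ i j, π ∣ a (ε i (g j)) - (if i = j then η else 0))
    (x : Cot a) (hx : π • x ∈ Submodule.span R (Set.range fun j => cd a (g j))) :
    x ∈ Submodule.span R (Set.range fun j => cd a (g j)) := by
  obtain ⟨r, hr⟩ := (Submodule.mem_span_range_iff_exists_fun R).1 hx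
  choose s hs using dvd_of_sum a g ε η hη hε r x hr
  have h1 : π • (x - ∑ j, s j • cd a (g j)) = 0 := by
    rw [smul_sub, Finset.smul_sum, ← hr, sub_eq_zero]
    refine Finset.sum_congr rfl fun j _ => ?_
    rw [hs j, mul_smul]
  have h2 := htf _ h1
  rw [sub_eq_zero] at h2
  rw [h2]
  exact Submodule.sum_mem _ fun j _ => Submodule.smul_mem _ _ (Submodule.subset_span ⟨j, rfl⟩)

section Maps

variable {c : Type*} [Fintype c]
variable (ψ : P →ₐ[R] B') (a' : B' →ₐ[R] R) (a : P →ₐ[R] R) (haa : ∀ x, a' (ψ x) = a x)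
variable (π : R) (z : c → P) (w : c → B')

/-- the map `Ξ : (x, r) ↦ π x + ∑ r j dz_j` -/
noncomputable def Xi : Cot a × (c → R) →ₗ[R] Cot a :=
  π • LinearMap.fst R _ _ +
    (Fintype.linearCombination R (fun j => cd a (z j))).comp (LinearMap.snd R _ _)

/-- the map `Θ : (x, r) ↦ x + ∑ r j dw_j` -/
noncomputable def Th : Cot a × (c → R) →ₗ[R] Cot a' :=
  (cotMap ψ a a' haa).comp (LinearMap.fst R _ _) +
    (Fintype.linearCombination R (fun j => cd a' (w j))).comp (LinearMap.snd R _ _)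

theorem Xi_apply (m : Cot a × (c → R)) : Xi a π z m = π • m.1 + ∑ j, m.2 j • cd a (z j) := by
  simp [Xi, Fintype.linearCombination_apply]

theorem Th_apply (m : Cot a × (c → R)) :
    Th ψ a' a haa w m = cotMap ψ a a' haa m.1 + ∑ j, m.2 j • cd a' (w j) := by
  simp [Th, Fintype.linearCombination_apply]

variable (hw : ∀ j, algebraMap R B' π * w j = ψ (z j))

/-- the ideal `(π, z)` -/
def J₀ : Ideal P := Ideal.span (insert (algebraMap R P π) (Set.range z))

include hw in
theorem cd_psi_z (j : c) : cd a' (ψ (z j)) = π • cd a' (w j) := by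
  rw [← hw, cd_mul, cd_algebraMap, smul_zero, add_zero, AlgHom.commutes]
  rfl

include hw in
theorem exists_of_mem_J₀ [DecidableEq c] (q : P) (hq : q ∈ J₀ π z) :
    ∃ (y : B') (m : Cot a × (c → R)), algebraMap R B' π * y = ψ q ∧ Xi a π z m = cd a q ∧
      Th ψ a' a haa w m = cd a' y := by
  have ha : ∀ q y, algebraMap R B' π * y = ψ q → a q = π * a' y := by
    intro q y h
    rw [← haa, ← h, map_mul, AlgHom.commutes]
    rfl
  refine Submodule.span_induction (p := fun q _ => ∃ (y : B') (m : Cot a × (c → R)),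
    algebraMap R B' π * y = ψ q ∧ Xi a π z m = cd a q ∧ Th ψ a' a haa w m = cd a' y)
    ?_ ?_ ?_ ?_ hq
  · intro x hx
    rcases hx with rfl | ⟨j, rfl⟩
    · refine ⟨1, 0, by rw [mul_one, AlgHom.commutes], by rw [map_zero, cd_algebraMap], ?_⟩
      rw [map_zero, ← map_one (algebraMap R B'), cd_algebraMap]
    · refine ⟨w j, (0, Pi.single j 1), hw j, ?_, ?_⟩
      · rw [Xi_apply, smul_zero, zero_add, Finset.sum_eq_single j]
        · simp
        · intro k _ hk
          simp [Pi.single_eq_of_ne hk]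
        · simp
      · rw [Th_apply, map_zero, zero_add, Finset.sum_eq_single j]
        · simp
        · intro k _ hk
          simp [Pi.single_eq_of_ne hk]
        · simp
  · exact ⟨0, 0, by simp, by simp, by simp⟩
  · rintro x y _ _ ⟨y1, m1, h1, h2, h3⟩ ⟨y2, m2, h4, h5, h6⟩
    exact ⟨y1 + y2, m1 + m2, by rw [mul_add, h1, h4, map_add], by rw [map_add, h2, h5, map_add],
      by rw [map_add, h3, h6, map_add]⟩
  · rintro s q _ ⟨y, m, h1, h2, h3⟩
    refine ⟨ψ s * y, a s • m + (a' y • cd a s, 0), ?_, ?_, ?_⟩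
    · rw [smul_eq_mul, map_mul, ← h1]
      ring
    · rw [map_add, map_smul, h2, smul_eq_mul, cd_mul, Xi_apply, ha q y h1]
      simp [mul_smul]
    · rw [map_add, map_smul, h3, Th_apply, cd_mul, haa]
      simp [cotMap_cd]

include hw in
theorem exists_of_mem_J₀_sq [DecidableEq c] (q : P) (hq : q ∈ J₀ π z ^ 2) :
    ∃ (y : B') (m : Cot a × (c → R)), algebraMap R B' π * (algebraMap R B' π * y) = ψ q ∧
      π • Xi a π z m = cd a q ∧ Th ψ a' a haa w m = cd a' y := by
  have ha : ∀ q y, algebraMap R B' π * y = ψ q → a q = π * a' y := by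
    intro q y h
    rw [← haa, ← h, map_mul, AlgHom.commutes]
    rfl
  rw [pow_two] at hq
  refine Submodule.mul_induction_on hq ?_ ?_
  · intro q1 hq1 q2 hq2
    obtain ⟨y1, m1, h1, h2, h3⟩ := exists_of_mem_J₀ ψ a' a haa π z w hw q1 hq1
    obtain ⟨y2, m2, h4, h5, h6⟩ := exists_of_mem_J₀ ψ a' a haa π z w hw q2 hq2
    refine ⟨y1 * y2, a' y1 • m2 + a' y2 • m1, ?_, ?_, ?_⟩
    · rw [map_mul, ← h1, ← h4]
      ring
    · rw [map_add, map_smul, map_smul, h5, h2, cd_mul, ha q1 y1 h1, ha q2 y2 h4, smul_add,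
        mul_smul, mul_smul]
    · rw [map_add, map_smul, map_smul, h6, h3, cd_mul]
  · rintro x y ⟨y1, m1, h1, h2, h3⟩ ⟨y2, m2, h4, h5, h6⟩
    refine ⟨y1 + y2, m1 + m2, ?_, ?_, ?_⟩
    · rw [mul_add, mul_add, h1, h4, map_add]
    · rw [map_add, smul_add, h2, h5, map_add]
    · rw [map_add, h3, h6, map_add]

end Maps

/-- **Néron's measure drops under a dilatation**, pointwise form. -/
theorem drop {π : R} (hπ : Irreducible π)
    (φ : P →ₐ[R] B) (hφ : Function.Surjective φ) (χ : B →ₐ[R] B') (a' : B' →ₐ[R] R)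
    (b : B →ₐ[R] R) (a : P →ₐ[R] R) (hab : ∀ x, b (φ x) = a x) (hba : ∀ x, a' (χ x) = b x)
    [Module.Finite R (Cot a)] (htf : ∀ x : Cot a, π • x = 0 → x = 0)
    {c e : Type*} [Fintype c] [Fintype e] [DecidableEq c] [DecidableEq e]
    (h : P) (hh : IsUnit (a h))
    (z : c → P) (w : c → B') (hw : ∀ j, algebraMap R B' π * w j = χ (φ (z j)))
    (δ : c → Derivation R P P) (hδ : ∀ i j, π ∣ a (δ i (z j)) - (if i = j then a h else 0))
    (g : e → P) (hg : ∀ j, φ (g j) = 0)
    (ε : e → Derivation R P P) (hε : ∀ i j, π ∣ a (ε i (g j)) - (if i = j then a h else 0))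
    (hJ : ∀ f, φ f = 0 → h * f ∈ J₀ π z)
    (hI : ∀ f, φ f = 0 → ∃ s : e → P, h * f - ∑ j, s j * g j ∈ J₀ π z ^ 2)
    (hreg : ∀ x : B', algebraMap R B' π * x = 0 → x = 0)
    (hker : ∀ f : P, χ (φ f) = 0 → ∃ n m : ℕ, φ (h ^ m * algebraMap R P π ^ n * f) = 0)
    (hloc : ∀ y : B', ∃ (n m : ℕ) (f : P), χ (φ h) ^ m * algebraMap R B' π ^ n * y = χ (φ f))
    (hgen : Algebra.adjoin R (Set.range (fun x => χ (φ x)) ∪ Set.range w ∪
      {y | y * χ (φ h) = 1}) = ⊤)
    (hN : tlen R (Cot b) ≠ 0) : tlen R (Cot a') < tlen R (Cot b) := by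
  classical
  let ψ : P →ₐ[R] B' := χ.comp φ
  have haa : ∀ x, a' (ψ x) = a x := fun x => (hba _).trans (hab x)
  have hwψ : ∀ j, algebraMap R B' π * w j = ψ (z j) := hw
  obtain ⟨η, hη⟩ := hh
  -- elements of the kernel of `lam`
  have hkerlam : ∀ x : Cot a, cotMap φ a b hab x = 0 → ∃ f, φ f = 0 ∧ cd a f = x :=
    fun x hx => exists_of_cotMap_eq_zero φ a b hab hφ x hx
  have ha0 : ∀ f, φ f = 0 → a f = 0 := fun f hf => by rw [← hab, hf, map_zero]
  have hψ0 : ∀ f, φ f = 0 → ψ f = 0 := fun f hf => by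
    change χ (φ f) = 0
    rw [hf, map_zero]
  have hcdh : ∀ f, a f = 0 → cd a (h * f) = (η : R) • cd a f := fun f hf => by
    rw [cd_mul, hf, zero_smul, add_zero, hη]
  refine tlen_lt' hπ (cotMap φ a b hab) (cotMap_surjective φ a b hab hφ) (Xi a π z)
    (Th ψ a' a haa w) ?_ ?_ (Submodule.span R (Set.range fun j => cd a (g j))) ?_ ?_ ?_ ?_ ?_ hN
  · -- surjectivity of `Θ`
    let S : Subalgebra R B' :=
      { carrier := {y | cd a' y ∈ LinearMap.range (Th ψ a' a haa w)}
        mul_mem' := by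
          intro x y hx hy
          change cd a' (x * y) ∈ LinearMap.range (Th ψ a' a haa w)
          rw [cd_mul]
          exact Submodule.add_mem _ (Submodule.smul_mem _ _ hy) (Submodule.smul_mem _ _ hx)
        add_mem' := by
          intro x y hx hy
          change cd a' (x + y) ∈ LinearMap.range (Th ψ a' a haa w)
          rw [map_add]
          exact Submodule.add_mem _ hx hy
        algebraMap_mem' := by
          intro r
          change cd a' (algebraMap R B' r) ∈ LinearMap.range (Th ψ a' a haa w)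
          rw [cd_algebraMap]
          exact Submodule.zero_mem _ }
    have hψS : ∀ x, ψ x ∈ S := by
      intro x
      refine ⟨(cd a x, 0), ?_⟩
      rw [Th_apply]
      simp [cotMap_cd]
    have hS : S = ⊤ := by
      rw [eq_top_iff, ← hgen]
      refine Algebra.adjoin_le ?_
      rintro y ((⟨x, rfl⟩ | ⟨j, rfl⟩) | hy)
      · exact hψS x
      · refine ⟨(0, Pi.single j 1), ?_⟩
        rw [Th_apply, map_zero, zero_add, Finset.sum_eq_single j]
        · simp
        · intro k _ hk
          simp [Pi.single_eq_of_ne hk]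
        · simp
      · have hy1 : y * ψ h = 1 := hy
        have h1 : cd a' (y * ψ h) = 0 := by
          rw [hy1, ← map_one (algebraMap R B'), cd_algebraMap]
        rw [cd_mul, haa, ← hη] at h1
        have h2 : cd a' y = -((↑η⁻¹ : R) • a' y • cd a' (ψ h)) := by
          have h3 := congrArg (fun t => (↑η⁻¹ : R) • t) h1
          simp only [smul_add, smul_zero] at h3
          rw [smul_smul (↑η⁻¹ : R) (↑η : R), Units.inv_mul, one_smul] at h3
          exact eq_neg_of_add_eq_zero_right h3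
        change cd a' y ∈ LinearMap.range (Th ψ a' a haa w)
        rw [h2]
        exact Submodule.neg_mem _ (Submodule.smul_mem _ _ (Submodule.smul_mem _ _ (hψS h)))
    intro y
    obtain ⟨f, -, rfl⟩ := exists_cd a' y
    have : f ∈ S := by rw [hS]; trivial
    exact this
  · -- `Ξ m = 0 → Θ m = 0`
    rintro ⟨x₀, r⟩ hm
    rw [Xi_apply] at hm
    have hm' : ∑ j, r j • cd a (z j) = π • (-x₀) := by
      rw [smul_neg]
      exact eq_neg_of_add_eq_zero_right hm
    choose s hs using dvd_of_sum a z δ (a h) (by rw [← hη]; exact η.isUnit) hδ r _ hm'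
    have h1 : π • (x₀ + ∑ j, s j • cd a (z j)) = 0 := by
      rw [smul_add, Finset.smul_sum]
      rw [← hm]
      congr 1
      refine Finset.sum_congr rfl fun j _ => ?_
      change _ = r j • cd a (z j)
      rw [hs j, mul_smul]
    have h2 : x₀ = -∑ j, s j • cd a (z j) := eq_neg_of_add_eq_zero_left (htf _ h1)
    rw [Th_apply]
    change cotMap ψ a a' haa x₀ + ∑ j, r j • cd a' (w j) = 0
    rw [h2, map_neg, map_sum, neg_add_eq_zero]
    refine Finset.sum_congr rfl fun j _ => ?_
    rw [map_smul, cotMap_cd, cd_psi_z ψ a' π z w hwψ, hs j, smul_smul, mul_comm]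
  · -- `G ≤ ker`
    rw [Submodule.span_le]
    rintro _ ⟨j, rfl⟩
    change cotMap φ a b hab (cd a (g j)) = 0
    rw [cotMap_cd, hg, map_zero]
  · exact fun x hx => span_saturated hπ a htf g ε (a h) (by rw [← hη]; exact η.isUnit) hε x hx
  · intro x hx
    obtain ⟨f, hf, rfl⟩ := hkerlam x hx
    obtain ⟨y, m, h1, h2, h3⟩ := exists_of_mem_J₀ ψ a' a haa π z w hwψ _ (hJ f hf)
    have hy : y = 0 := hreg y (by rw [h1, hψ0]; rw [map_mul, hf, mul_zero])
    refine ⟨(↑η⁻¹ : R) • m, ?_, ?_⟩
    · rw [map_smul, h2, hcdh f (ha0 f hf), smul_smul, Units.inv_mul, one_smul]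
    · rw [map_smul, h3, hy, map_zero, smul_zero]
  · intro x hx
    obtain ⟨f, hf, rfl⟩ := hkerlam x hx
    obtain ⟨s, hs⟩ := hI f hf
    obtain ⟨y, m, h1, h2, h3⟩ := exists_of_mem_J₀_sq ψ a' a haa π z w hwψ _ hs
    have hq : φ (h * f - ∑ j, s j * g j) = 0 := by
      rw [map_sub, map_mul, hf, mul_zero, map_sum, Finset.sum_eq_zero, sub_zero]
      intro j _
      rw [map_mul, hg, mul_zero]
    have hy : y = 0 := hreg y (hreg _ (by rw [h1, hψ0 _ hq]))
    refine ⟨(↑η⁻¹ : R) • ∑ j, a (s j) • cd a (g j), ?_, (↑η⁻¹ : R) • m, ?_, ?_⟩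
    · exact Submodule.smul_mem _ _ (Submodule.sum_mem _ fun j _ =>
        Submodule.smul_mem _ _ (Submodule.subset_span ⟨j, rfl⟩))
    · rw [map_smul, h3, hy, map_zero, smul_zero]
    · have h4 : cd a (h * f) = ∑ j, a (s j) • cd a (g j) + π • Xi a π z m := by
        rw [h2, map_sub, map_sum]
        have h5 : ∀ j, cd a (s j * g j) = a (s j) • cd a (g j) := by
          intro j
          rw [cd_mul, ha0 _ (hg j), zero_smul, add_zero]
        simp only [h5]
        abel
      rw [hcdh f (ha0 f hf)] at h4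
      have h5 := congrArg (fun t => (↑η⁻¹ : R) • t) h4
      simp only [smul_add] at h5
      rw [smul_smul (↑η⁻¹ : R) (↑η : R), Units.inv_mul, one_smul] at h5
      rw [h5, map_smul, smul_comm π]
  · -- saturation
    intro m hm
    have h1 : cotMap ψ a a' haa (Xi a π z m) = π • Th ψ a' a haa w m := by
      rw [Xi_apply, Th_apply, map_add, map_smul, map_sum, smul_add, Finset.smul_sum]
      congr 1
      refine Finset.sum_congr rfl fun j _ => ?_
      rw [map_smul, cotMap_cd, cd_psi_z ψ a' π z w hwψ, smul_comm]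
    rw [hm, smul_zero] at h1
    obtain ⟨f, hf, hfx⟩ := exists_cd a (Xi a π z m)
    rw [← hfx] at h1 ⊢
    rw [cotMap_cd, cd_eq_zero_iff a' _ (by rw [haa, hf])] at h1
    -- elements of `(ker a')²`
    have h2 : ∀ y ∈ RingHom.ker a' ^ 2, ∃ (n m : ℕ) (f' : P), f' ∈ RingHom.ker a ^ 2 ∧
        ψ h ^ m * algebraMap R B' π ^ n * y = ψ f' := by
      have h3 : ∀ y ∈ RingHom.ker a', ∃ (n m : ℕ) (f' : P), f' ∈ RingHom.ker a ∧
          ψ h ^ m * algebraMap R B' π ^ n * y = ψ f' := by
        intro y hy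
        obtain ⟨n, m, f', hf'⟩ := hloc y
        refine ⟨n, m, f', ?_, hf'⟩
        have := congrArg a' hf'
        rw [map_mul, show a' y = 0 from hy, mul_zero] at this
        exact ((haa f').symm.trans this.symm)
      intro y hy
      rw [pow_two] at hy
      refine Submodule.mul_induction_on hy ?_ ?_
      · intro y1 hy1 y2 hy2
        obtain ⟨n1, m1, f1, hf1, h1⟩ := h3 y1 hy1
        obtain ⟨n2, m2, f2, hf2, h2⟩ := h3 y2 hy2
        refine ⟨n1 + n2, m1 + m2, f1 * f2, ?_, ?_⟩
        · rw [pow_two]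
          exact Ideal.mul_mem_mul hf1 hf2
        · rw [map_mul, ← h1, ← h2]
          ring
      · rintro y1 y2 ⟨n1, m1, f1, hf1, h1⟩ ⟨n2, m2, f2, hf2, h2⟩
        refine ⟨n1 + n2, m1 + m2, h ^ m2 * algebraMap R P π ^ n2 * f1 +
          h ^ m1 * algebraMap R P π ^ n1 * f2, ?_, ?_⟩
        · exact Ideal.add_mem _ (Ideal.mul_mem_left _ _ hf1) (Ideal.mul_mem_left _ _ hf2)
        · rw [map_add, map_mul, map_mul, map_mul, map_mul, map_pow, map_pow, map_pow, map_pow,
            AlgHom.commutes, ← h1, ← h2]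
          ring
    obtain ⟨n, k, f', hf', h4⟩ := h2 _ h1
    have h5 : χ (φ (h ^ k * algebraMap R P π ^ n * f - f')) = 0 := by
      change ψ (h ^ k * algebraMap R P π ^ n * f - f') = 0
      rw [map_sub, ← h4, map_mul, map_mul, map_pow, map_pow, AlgHom.commutes, sub_self]
    obtain ⟨n', k', h6⟩ := hker _ h5
    have hf'0 : a f' = 0 := Ideal.pow_le_self two_ne_zero hf'
    have h7 : cd a (h ^ k' * algebraMap R P π ^ n' * (h ^ k * algebraMap R P π ^ n * f - f')) =
        ((η : R) ^ (k' + k) * π ^ (n' + n)) • cd a f := by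
      have h8 : a (h ^ k * algebraMap R P π ^ n * f - f') = 0 := by
        rw [map_sub, map_mul, hf, mul_zero, hf'0, sub_zero]
      rw [cd_mul, h8, zero_smul, add_zero, map_sub, (cd_eq_zero_iff a f' hf'0).2 hf', sub_zero,
        cd_mul, hf, zero_smul, add_zero, smul_smul]
      congr 1
      simp only [map_mul, map_pow, AlgHom.commutes, ← hη]
      change (η : R) ^ k' * π ^ n' * ((η : R) ^ k * π ^ n) = _
      ring
    refine ⟨n' + n, ?_⟩
    have h9 := congrArg (cotMap φ a b hab) h7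
    rw [cotMap_cd, h6, map_zero, mul_smul, map_smul] at h9
    have h10 := congrArg (fun t => ((↑η⁻¹ : R) ^ (k' + k)) • t) h9.symm
    simp only [smul_zero] at h10
    rwa [smul_smul, ← mul_pow, Units.inv_mul, one_pow, one_smul] at h10

end Groth.Agent.Sga7.H113.Drop
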