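import Groth.Agent.Sga7.H113.GenSep3
import Groth.Agent.Sga7.H113.Drop
import Mathlib.RingTheory.Nakayama
import Mathlib.RingTheory.Localization.Ideal

/-!
# Choice of coordinates for the centre of the dilatation
-/

set_option autoImplicit false

namespace Groth.Agent.Sga7.H113.GenCoord

open MvPolynomial

section General

variable {P : Type*} [CommRing P]

/-- A uniform denominator. -/
theorem exists_uniform (J : Ideal P) [J.IsPrime] (𝔞 𝔟 : Ideal P) (h𝔞 : 𝔞.FG)
    (H : ∀ f ∈ 𝔞, ∃ h ∉ J, h * f ∈ 𝔟) : ∃ h ∉ J, ∀ f ∈ 𝔞, h * f ∈ 𝔟 := by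
  classical
  obtain ⟨s, hs⟩ := h𝔞
  have hs' : ∀ x ∈ s, x ∈ 𝔞 := fun x hx => hs ▸ Ideal.subset_span hx
  choose! h hh hh' using H
  refine ⟨∏ x ∈ s, h x, ?_, ?_⟩
  · intro hmem
    obtain ⟨x, hx, hx'⟩ := (Ideal.IsPrime.prod_mem_iff).1 hmem
    exact hh x (hs' x hx) hx'
  · intro f hf
    rw [← hs] at hf
    refine Submodule.span_induction (p := fun f _ => (∏ x ∈ s, h x) * f ∈ 𝔟) ?_ ?_ ?_ ?_ hf
    · intro x hx
      rw [← Finset.prod_erase_mul s h hx, mul_assoc]
      exact Ideal.mul_mem_left _ _ (hh' x (hs' x hx))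
    · rw [mul_zero]
      exact 𝔟.zero_mem
    · intro x y _ _ hx hy
      rw [mul_add]
      exact 𝔟.add_mem hx hy
    · intro r x _ hx
      rw [smul_eq_mul, mul_left_comm]
      exact Ideal.mul_mem_left _ _ hx

/-- Nakayama at a prime. -/
theorem nakayama (J : Ideal P) [J.IsPrime] (hJ : J.FG) (𝔟 : Ideal P)
    (H : ∀ f ∈ J, ∃ h ∉ J, h * f ∈ 𝔟 ⊔ J ^ 2) : ∃ h ∉ J, ∀ f ∈ J, h * f ∈ 𝔟 := by
  apply exists_uniform J J 𝔟 hJ
  intro f hf
  let S := Localization.AtPrime J
  have h1 : J.map (algebraMap P S) ≤ 𝔟.map (algebraMap P S) ⊔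
      (J.map (algebraMap P S)) • (J.map (algebraMap P S)) := by
    rw [Ideal.map_le_iff_le_comap]
    intro x hx
    obtain ⟨h, hh, hx'⟩ := H x hx
    rw [Ideal.mem_comap]
    have h2 := Ideal.mem_map_of_mem (algebraMap P S) hx'
    rw [Ideal.map_sup, Ideal.map_pow, map_mul, pow_two] at h2
    rw [smul_eq_mul]
    have hu : IsUnit (algebraMap P S h) := IsLocalization.map_units S (⟨h, hh⟩ : J.primeCompl)
    exact (Ideal.unit_mul_mem_iff_mem _ hu).1 h2
  have h2 : J.map (algebraMap P S) ≤ 𝔟.map (algebraMap P S) := by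
    refine Submodule.le_of_le_smul_of_le_jacobson_bot (I := J.map (algebraMap P S))
      (N := 𝔟.map (algebraMap P S)) (N' := J.map (algebraMap P S))
      (Ideal.FG.map hJ (algebraMap P S)) ?_ h1
    rw [IsLocalRing.jacobson_eq_maximalIdeal ⊥ bot_ne_top, Localization.AtPrime.map_eq_maximalIdeal]
  have h3 := h2 (Ideal.mem_map_of_mem _ hf)
  rw [IsLocalization.mem_map_algebraMap_iff J.primeCompl] at h3
  obtain ⟨⟨⟨a, ha⟩, ⟨s, hs⟩⟩, h5⟩ := h3
  simp only at h5
  rw [← map_mul] at h5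
  obtain ⟨c, hc⟩ := (IsLocalization.eq_iff_exists J.primeCompl S).1 h5
  refine ⟨c * s, ?_, ?_⟩
  · intro h
    rcases (inferInstance : J.IsPrime).mem_or_mem h with h | h
    · exact c.2 h
    · exact hs h
  · have : (c : P) * s * f = c * a := by
      rw [← hc]; ring
    rw [this]
    exact Ideal.mul_mem_left _ _ ha

/-- Clearing denominators in the residue field. -/
theorem exists_denom (J : Ideal P) [J.IsPrime] {ι : Type*} [Fintype ι] (l : ι → J.ResidueField) :
    ∃ (h : P) (_ : h ∉ J) (p : ι → P), ∀ i, algebraMap P J.ResidueField h * l i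
      = algebraMap P J.ResidueField (p i) := by
  classical
  obtain ⟨d, hd⟩ := IsLocalization.exist_integer_multiples_of_finset
    (nonZeroDivisors (P ⧸ J)) (Finset.univ.image l)
  have hd' : ∀ i, ∃ q : P, algebraMap (P ⧸ J) J.ResidueField (Ideal.Quotient.mk J q)
      = (d : P ⧸ J) • l i := by
    intro i
    obtain ⟨q, hq⟩ := hd (l i) (Finset.mem_image_of_mem _ (Finset.mem_univ i))
    obtain ⟨q, rfl⟩ := Ideal.Quotient.mk_surjective q
    exact ⟨q, hq⟩
  choose p hp using hd'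
  obtain ⟨h, hh⟩ := Ideal.Quotient.mk_surjective (d : P ⧸ J)
  refine ⟨h, ?_, p, ?_⟩
  · intro h'
    rw [Ideal.Quotient.eq_zero_iff_mem.2 h'] at hh
    exact nonZeroDivisors.ne_zero d.2 hh.symm
  · intro i
    have := hp i
    rw [← hh, Algebra.smul_def] at this
    exact this.symm

end General

section Grad

variable {R : Type*} [CommRing R] {n : ℕ}

local notation "𝔓" => MvPolynomial (Fin n) R

/-- the gradient in the residue field of `J` -/
noncomputable def grad (J : Ideal 𝔓) [J.IsPrime] (f : 𝔓) : Fin n → J.ResidueField :=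
  fun i => algebraMap 𝔓 J.ResidueField (pderiv i f)

theorem grad_add (J : Ideal 𝔓) [J.IsPrime] (f g : 𝔓) :
    grad J (f + g) = grad J f + grad J g := by
  funext i
  simp [grad]

theorem grad_sub (J : Ideal 𝔓) [J.IsPrime] (f g : 𝔓) :
    grad J (f - g) = grad J f - grad J g := by
  funext i
  simp [grad]

theorem grad_mul (J : Ideal 𝔓) [J.IsPrime] (f g : 𝔓) (hg : g ∈ J) :
    grad J (f * g) = algebraMap 𝔓 J.ResidueField f • grad J g := by
  funext i
  have hg0 : algebraMap 𝔓 J.ResidueField g = 0 := Ideal.algebraMap_residueField_eq_zero.2 hg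
  simp [grad, Derivation.leibniz, hg0]

theorem grad_sum (J : Ideal 𝔓) [J.IsPrime] {ι : Type*} (s : Finset ι) (f : ι → 𝔓) :
    grad J (∑ i ∈ s, f i) = ∑ i ∈ s, grad J (f i) := by
  funext i
  simp [grad, map_sum]

theorem grad_eq_zero_iff (J : Ideal 𝔓) [J.IsPrime] (f : 𝔓) :
    grad J f = 0 ↔ ∀ i, pderiv i f ∈ J := by
  constructor
  · intro h i
    exact Ideal.algebraMap_residueField_eq_zero.1 (congrFun h i)
  · intro h
    funext i
    exact Ideal.algebraMap_residueField_eq_zero.2 (h i)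

theorem der_sum_apply {ι : Type*} (s : Finset ι) (D : ι → Derivation R 𝔓 𝔓) (f : 𝔓) :
    (∑ i ∈ s, D i) f = ∑ i ∈ s, D i f := by
  have h := map_sum (Derivation.coeFnAddMonoidHom (R := R) (A := 𝔓) (M := 𝔓)) D s
  have h' := congrFun h f
  rw [Finset.sum_apply] at h'
  exact h'

/-- Choice of elements of an ideal `𝔞 ≤ J` with independent gradients. -/
theorem exists_basis (J : Ideal 𝔓) [J.IsPrime] (𝔞 : Ideal 𝔓) (h𝔞 : 𝔞 ≤ J) :
    ∃ (c : ℕ) (z : Fin c → 𝔓) (h : 𝔓) (δ : Fin c → Derivation R 𝔓 𝔓), (∀ j, z j ∈ 𝔞) ∧ h ∉ J ∧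
      (∀ i j, δ i (z j) - (if i = j then h else 0) ∈ J) ∧
      (∀ i f, (∀ m, pderiv m f ∈ J) → δ i f ∈ J) ∧
      ∀ f ∈ 𝔞, ∃ (h' : 𝔓) (_ : h' ∉ J) (p : Fin c → 𝔓),
        ∀ m, pderiv m (h' * f - ∑ j, p j * z j) ∈ J := by
  classical
  let κ := J.ResidueField
  let S : Set (Fin n → κ) := grad J '' (𝔞 : Set 𝔓)
  obtain ⟨b, hbS, hspan, hli⟩ := exists_linearIndependent κ S
  have hfin : Finite b := hli.finite
  have : Fintype b := Fintype.ofFinite b
  have hz : ∀ j : b, ∃ z ∈ 𝔞, grad J z = j.1 := fun j => hbS j.2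
  choose z₀ hz₀ hz₀' using hz
  let e := Fintype.equivFin b
  let z : Fin (Fintype.card b) → 𝔓 := fun j => z₀ (e.symm j)
  have hzg : ∀ j, grad J (z j) = (e.symm j).1 := fun j => hz₀' _
  have hli' : LinearIndependent κ (fun j => grad J (z j)) := by
    have : (fun j => grad J (z j)) = (fun x : b => (x : Fin n → κ)) ∘ e.symm := by
      funext j
      exact hzg j
    rw [this]
    exact hli.comp _ e.symm.injective
  have hspan' : Submodule.span κ (Set.range fun j => grad J (z j)) = Submodule.span κ S := by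
    rw [← hspan]
    congr 1
    ext v
    constructor
    · rintro ⟨j, rfl⟩
      simp only [hzg]
      exact (e.symm j).2
    · intro hv
      exact ⟨e ⟨v, hv⟩, by simp [hzg]⟩
  -- the dual functionals
  obtain ⟨L, hL⟩ : ∃ L : (Fin n → κ) →ₗ[κ] (Fin (Fintype.card b) → κ),
      ∀ j, L (grad J (z j)) = Pi.single j 1 := by
    obtain ⟨g, hg⟩ := LinearMap.exists_leftInverse_of_injective
      (Fintype.linearCombination κ (fun j => grad J (z j)))
      (LinearMap.ker_eq_bot.2 (by
        have := hli'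
        rw [linearIndependent_iff_injective_fintypeLinearCombination] at this
        exact this))
    refine ⟨g, fun j => ?_⟩
    have := LinearMap.congr_fun hg (Pi.single j 1)
    simpa using this
  obtain ⟨h, hh, p, hp⟩ := exists_denom J
    (fun im : Fin (Fintype.card b) × Fin n => L (Pi.single im.2 1) im.1)
  refine ⟨Fintype.card b, z, h, fun i => ∑ m, p (i, m) • (pderiv m), fun j => hz₀ _, hh,
    ?_, ?_, ?_⟩
  · intro i j
    rw [← Ideal.algebraMap_residueField_eq_zero]
    have h1 : L (grad J (z j)) i = ∑ m, grad J (z j) m * L (Pi.single m 1) i := by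
      conv_lhs => rw [← (Pi.basisFun κ (Fin n)).sum_repr (grad J (z j))]
      rw [map_sum, Finset.sum_apply]
      refine Finset.sum_congr rfl fun m _ => ?_
      rw [map_smul, Pi.basisFun_repr, Pi.basisFun_apply, Pi.smul_apply, smul_eq_mul]
    have h2 : (∑ m, p (i, m) • (pderiv m : Derivation R 𝔓 𝔓)) (z j)
        = ∑ m, p (i, m) * pderiv m (z j) := by
      rw [der_sum_apply]
      rfl
    rw [map_sub, h2, map_sum]
    have h3 : ∀ m, algebraMap 𝔓 κ (p (i, m) * pderiv m (z j))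
        = algebraMap 𝔓 κ h * (grad J (z j) m * L (Pi.single m 1) i) := by
      intro m
      rw [map_mul, ← hp (i, m)]
      simp only [grad]
      ring
    rw [Finset.sum_congr rfl fun m _ => h3 m, ← Finset.mul_sum, ← h1, hL, Pi.single_apply]
    by_cases hij : i = j
    · simp [hij, κ]
    · simp [hij]
  · intro i f hf
    rw [der_sum_apply]
    exact Ideal.sum_mem _ fun m _ => Ideal.mul_mem_left _ _ (hf m)
  · intro f hf
    have h1 : grad J f ∈ Submodule.span κ (Set.range fun j => grad J (z j)) := by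
      rw [hspan']
      exact Submodule.subset_span ⟨f, hf, rfl⟩
    obtain ⟨l, hl⟩ := (Submodule.mem_span_range_iff_exists_fun κ).1 h1
    obtain ⟨h', hh', p', hp'⟩ := exists_denom J l
    refine ⟨h', hh', p', (grad_eq_zero_iff J _).1 ?_⟩
    rw [grad_sub, grad_mul J h' f (h𝔞 hf), grad_sum, ← hl, Finset.smul_sum, sub_eq_zero]
    refine Finset.sum_congr rfl fun j _ => ?_
    rw [grad_mul J _ _ (h𝔞 (hz₀ _)), smul_smul, hp']

end Grad

end Groth.Agent.Sga7.H113.GenCoord
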