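import Groth.Agent.Sga7.H113.GenCoord

/-!
# Choice of coordinates for the centre of the dilatation: the main statement
-/

set_option autoImplicit false

namespace Groth.Agent.Sga7.H113.GenCoord2

open MvPolynomial Groth.Agent.Sga7.H113.Drop Groth.Agent.Sga7.H113.GenCoord

theorem mem_J₀_iff {R P : Type*} [CommRing R] [CommRing P] [Algebra R P] {c : Type*} [Fintype c]
    (π : R) (z : c → P) (q : P) : q ∈ J₀ π z ↔
      ∃ (c₀ : P) (l : c → P), q = c₀ * algebraMap R P π + ∑ i, l i * z i := by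
  rw [J₀, Ideal.mem_span_insert]
  constructor
  · rintro ⟨a, w, hw, rfl⟩
    obtain ⟨l, rfl⟩ := (Ideal.mem_span_range_iff_exists_fun).1 hw
    exact ⟨a, l, rfl⟩
  · rintro ⟨a, l, rfl⟩
    exact ⟨a, _, (Ideal.mem_span_range_iff_exists_fun).2 ⟨l, rfl⟩, rfl⟩

variable {R : Type*} [CommRing R] [IsDomain R] [IsDiscreteValuationRing R] {n : ℕ}

local notation "𝔓" => MvPolynomial (Fin n) R

theorem exists_coord {π : R} (hπ : Irreducible π)
    (J : Ideal 𝔓) [hJ : J.IsPrime] (hπJ : C π ∈ J) (I : Ideal 𝔓) (hIJ : I ≤ J)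
    (E : Set (𝔓 →ₐ[R] R)) (hEI : ∀ a ∈ E, ∀ f ∈ I, a f = 0)
    (hEJ : ∀ a ∈ E, ∀ f ∈ J, π ∣ a f) (hdense : ∀ f, (∀ a ∈ E, π ∣ a f) → f ∈ J) :
    ∃ (h : 𝔓) (_ : h ∉ J) (c e : ℕ) (z : Fin c → 𝔓) (g : Fin e → 𝔓)
      (δ : Fin c → Derivation R 𝔓 𝔓) (ε : Fin e → Derivation R 𝔓 𝔓),
      (∀ j, z j ∈ J) ∧ (∀ j, g j ∈ I) ∧
      (∀ i j, δ i (z j) - (if i = j then h else 0) ∈ J) ∧
      (∀ i j, ε i (g j) - (if i = j then h else 0) ∈ J) ∧
      (∀ f ∈ J, h * f ∈ J₀ π z) ∧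
      (∀ f ∈ I, ∃ s : Fin e → 𝔓, h * f - ∑ j, s j * g j ∈ J₀ π z ^ 2) := by
  classical
  obtain ⟨c, z, h₁, δ, hzJ, hh₁, hδ, hδJ, hz⟩ := exists_basis J J le_rfl
  obtain ⟨e, g, h₂, ε, hgI, hh₂, hε, -, hg⟩ := exists_basis J I hIJ
  have hCπ : (algebraMap R 𝔓 π) = C π := rfl
  have hπJ₀ : C π ∈ J₀ π z := Ideal.subset_span (Set.mem_insert _ _)
  have hzJ₀ : ∀ j, z j ∈ J₀ π z := fun j => Ideal.subset_span (Set.mem_insert_of_mem _ ⟨j, rfl⟩)
  -- Step A
  obtain ⟨h₃, hh₃, hJ₃⟩ : ∃ h ∉ J, ∀ f ∈ J, h * f ∈ J₀ π z := by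
    apply nakayama J (IsNoetherian.noetherian J)
    intro f hf
    obtain ⟨h', hh', p, hp⟩ := hz f hf
    have hfJ : h' * f - ∑ j, p j * z j ∈ J :=
      J.sub_mem (J.mul_mem_left _ hf) (J.sum_mem fun j _ => J.mul_mem_left _ (hzJ j))
    obtain ⟨h'', hh'', hmem⟩ := GenSep3.exists_mul_mem hπ J hπJ E hEJ hdense _ hfJ hp
    refine ⟨h'' * h', fun h => (hJ.mem_or_mem h).elim hh'' hh', ?_⟩
    have h1 : h'' * h' * f = h'' * (h' * f - ∑ j, p j * z j) + h'' * ∑ j, p j * z j := by ring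
    rw [h1]
    refine Ideal.add_mem _ ?_ ?_
    · refine (sup_le le_sup_right ?_ : J ^ 2 ⊔ Ideal.span {C π} ≤ J₀ π z ⊔ J ^ 2) hmem
      rw [Ideal.span_le, Set.singleton_subset_iff]
      exact (le_sup_left : J₀ π z ≤ J₀ π z ⊔ J ^ 2) hπJ₀
    · exact (le_sup_left : J₀ π z ≤ J₀ π z ⊔ J ^ 2)
        (Ideal.mul_mem_left _ _ (Ideal.sum_mem _ fun j _ => Ideal.mul_mem_left _ _ (hzJ₀ j)))
  -- Step B
  obtain ⟨h₄, hh₄, hI₄⟩ : ∃ h ∉ J, ∀ f ∈ I, h * f ∈ Ideal.span (Set.range g) ⊔ J₀ π z ^ 2 := by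
    apply exists_uniform J I _ (IsNoetherian.noetherian I)
    intro f hf
    obtain ⟨h', hh', p, hp⟩ := hg f hf
    set q : 𝔓 := h' * f - ∑ j, p j * g j with hq
    have hqI : q ∈ I :=
      I.sub_mem (I.mul_mem_left _ hf) (I.sum_mem fun j _ => I.mul_mem_left _ (hgI j))
    obtain ⟨c₀, l, hl⟩ := (mem_J₀_iff π z _).1 (hJ₃ q (hIJ hqI))
    have hlJ : ∀ i, l i ∈ J := by
      intro i
      have h1 : δ i (h₃ * q) ∈ J := by
        apply hδJ
        intro m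
        rw [Derivation.leibniz, smul_eq_mul, smul_eq_mul]
        exact J.add_mem (J.mul_mem_left _ (hp m)) (J.mul_mem_right _ (hIJ hqI))
      rw [hl, map_add, Derivation.leibniz, map_sum] at h1
      have h2 : ∑ x, δ i (l x * z x) - ∑ x, l x * δ i (z x) ∈ J := by
        rw [← Finset.sum_sub_distrib]
        refine J.sum_mem fun x _ => ?_
        rw [Derivation.leibniz, smul_eq_mul, smul_eq_mul, add_sub_cancel_left]
        exact J.mul_mem_right _ (hzJ x)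
      have h3 : ∑ x, l x * δ i (z x) ∈ J := by
        have h4 : c₀ • δ i (algebraMap R 𝔓 π) + (algebraMap R 𝔓 π) • δ i c₀ ∈ J := by
          rw [Derivation.map_algebraMap, smul_zero, zero_add, smul_eq_mul]
          exact J.mul_mem_right _ hπJ
        have h5 := (J.add_mem_iff_right h4).1 h1
        exact (J.sub_mem_iff_right h5).1 h2
      have h6 : ∑ x, l x * (δ i (z x) - if i = x then h₁ else 0) ∈ J :=
        J.sum_mem fun x _ => J.mul_mem_left _ (hδ i x)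
      have h7 : ∑ x, l x * (δ i (z x) - if i = x then h₁ else 0)
          = ∑ x, l x * δ i (z x) - l i * h₁ := by
        simp only [mul_sub, Finset.sum_sub_distrib]
        congr 1
        simp
      rw [h7] at h6
      have h8 : l i * h₁ ∈ J := (J.sub_mem_iff_right h3).1 h6
      exact (hJ.mem_or_mem h8).resolve_right hh₁
    have hc₀ : c₀ ∈ J := by
      apply hdense
      intro a ha
      have h1 : a (h₃ * q) = 0 := by rw [map_mul, hEI a ha q hqI, mul_zero]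
      rw [hl, map_add, map_mul, map_sum, AlgHom.commutes] at h1
      have h2 : π * π ∣ ∑ x, a (l x * z x) := by
        refine Finset.dvd_sum fun x _ => ?_
        rw [map_mul]
        exact mul_dvd_mul (hEJ a ha _ (hlJ x)) (hEJ a ha _ (hzJ x))
      have h3 : π * π ∣ a c₀ * algebraMap R R π := by
        rw [eq_neg_of_add_eq_zero_left h1]
        exact (dvd_neg).2 h2
      exact (mul_dvd_mul_iff_right hπ.ne_zero).1 h3
    refine ⟨h₃ * h₃ * h', fun h => (hJ.mem_or_mem h).elim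
      (fun h => (hJ.mem_or_mem h).elim hh₃ hh₃) hh', ?_⟩
    have h1 : h₃ * h₃ * h' * f = h₃ * h₃ * ∑ j, p j * g j + h₃ * (h₃ * q) := by
      rw [hq]; ring
    rw [h1]
    refine Ideal.add_mem _ ?_ ?_
    · exact (le_sup_left : Ideal.span (Set.range g) ≤ _)
        (Ideal.mul_mem_left _ _ (Ideal.sum_mem _ fun j _ =>
          Ideal.mul_mem_left _ _ (Ideal.subset_span ⟨j, rfl⟩)))
    · apply (le_sup_right : J₀ π z ^ 2 ≤ _)
      rw [hl, mul_add, pow_two, Finset.mul_sum]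
      refine Ideal.add_mem _ ?_ ?_
      · rw [← mul_assoc]
        exact Ideal.mul_mem_mul (hJ₃ _ hc₀) hπJ₀
      · refine Ideal.sum_mem _ fun j _ => ?_
        rw [← mul_assoc]
        exact Ideal.mul_mem_mul (hJ₃ _ (hlJ j)) (hzJ₀ j)
  -- assembly
  refine ⟨h₁ * h₂ * h₃ * h₄, fun h => (hJ.mem_or_mem h).elim (fun h => (hJ.mem_or_mem h).elim
    (fun h => (hJ.mem_or_mem h).elim hh₁ hh₂) hh₃) hh₄, c, e, z, g,
    fun i => (h₂ * h₃ * h₄) • δ i, fun i => (h₁ * h₃ * h₄) • ε i, hzJ, hgI, ?_, ?_, ?_, ?_⟩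
  · intro i j
    have h1 : ((h₂ * h₃ * h₄) • δ i) (z j) - (if i = j then h₁ * h₂ * h₃ * h₄ else 0)
        = (h₂ * h₃ * h₄) * (δ i (z j) - (if i = j then h₁ else 0)) := by
      rw [Derivation.smul_apply, smul_eq_mul]
      split_ifs <;> ring
    rw [h1]
    exact J.mul_mem_left _ (hδ i j)
  · intro i j
    have h1 : ((h₁ * h₃ * h₄) • ε i) (g j) - (if i = j then h₁ * h₂ * h₃ * h₄ else 0)
        = (h₁ * h₃ * h₄) * (ε i (g j) - (if i = j then h₂ else 0)) := by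
      rw [Derivation.smul_apply, smul_eq_mul]
      split_ifs <;> ring
    rw [h1]
    exact J.mul_mem_left _ (hε i j)
  · intro f hf
    have h1 : h₁ * h₂ * h₃ * h₄ * f = (h₁ * h₂ * h₄) * (h₃ * f) := by ring
    rw [h1]
    exact Ideal.mul_mem_left _ _ (hJ₃ f hf)
  · intro f hf
    obtain ⟨x, hx, y, hy, hxy⟩ := Submodule.mem_sup.1 (hI₄ f hf)
    obtain ⟨s, rfl⟩ := (Ideal.mem_span_range_iff_exists_fun).1 hx
    refine ⟨fun j => h₁ * h₂ * h₃ * s j, ?_⟩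
    have h1 : h₁ * h₂ * h₃ * h₄ * f - ∑ j, h₁ * h₂ * h₃ * s j * g j = (h₁ * h₂ * h₃) * y := by
      have h2 : ∑ j, h₁ * h₂ * h₃ * s j * g j = (h₁ * h₂ * h₃) * ∑ j, s j * g j := by
        rw [Finset.mul_sum]
        exact Finset.sum_congr rfl fun j _ => by ring
      have h3 : h₁ * h₂ * h₃ * h₄ * f = h₁ * h₂ * h₃ * (h₄ * f) := by ring
      rw [h2, h3, ← hxy]
      ring
    rw [h1]
    exact Ideal.mul_mem_left _ _ hy

end Groth.Agent.Sga7.H113.GenCoord2
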