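import Mathlib.AlgebraicGeometry.OpenImmersion
import Groth.Agent.Sga7.H113.Dilat

/-!
# Maps which are open immersions on generic fibres
-/

set_option autoImplicit false

namespace Groth.Agent.Sga7.H113.GenOpen

open AlgebraicGeometry CategoryTheory

universe u

variable {R : Type u} [CommRing R] {B C D : Type u} [CommRing B] [Algebra R B] [CommRing C]
  [Algebra R C] [CommRing D] [Algebra R D]

/-- The map `Spec C[1/π] → Spec B[1/π]` is an open immersion. -/
def GenOpen (π : R) (φ : B →ₐ[R] C) : Prop :=
  IsOpenImmersion (Spec.map (CommRingCat.ofHom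
    (Localization.awayMap (φ : B →+* C) (algebraMap R B π))))

theorem genOpen_iff (π : R) (φ : B →ₐ[R] C) (C' : Type u) [CommRing C'] [Algebra C C']
    [IsLocalization.Away (algebraMap R C π) C'] :
    GenOpen π φ ↔
      IsOpenImmersion (Spec.map (CommRingCat.ofHom ((algebraMap C C').comp (φ : B →+* C)))) := by
  let r : B := algebraMap R B π
  have hr : (φ : B →+* C) r = algebraMap R C π := φ.commutes π
  have h0 : IsLocalization.Away ((φ : B →+* C) r) C' := by rw [hr]; infer_instance
  let e : Localization.Away ((φ : B →+* C) r) ≃ₐ[C] C' :=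
    IsLocalization.algEquiv (Submonoid.powers ((φ : B →+* C) r)) _ _
  let eh : Localization.Away ((φ : B →+* C) r) →+* C' := e.toRingEquiv.toRingHom
  have h1 : (Localization.awayMap (φ : B →+* C) r).comp (algebraMap B (Localization.Away r))
      = (algebraMap C (Localization.Away ((φ : B →+* C) r))).comp (φ : B →+* C) :=
    IsLocalization.map_comp _
  have h2 : (eh.comp ((Localization.awayMap (φ : B →+* C) r).comp
      (algebraMap B (Localization.Away r)))) = (algebraMap C C').comp (φ : B →+* C) := by
    rw [h1, ← RingHom.comp_assoc]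
    congr 1
    ext x
    exact e.commutes x
  have h3 : Spec.map (CommRingCat.ofHom ((algebraMap C C').comp (φ : B →+* C)))
      = Spec.map (CommRingCat.ofHom eh) ≫
        (Spec.map (CommRingCat.ofHom (Localization.awayMap (φ : B →+* C) r)) ≫
        Spec.map (CommRingCat.ofHom (algebraMap B (Localization.Away r)))) := by
    rw [← h2, ← Spec.map_comp, ← Spec.map_comp]
    rfl
  have h4 : IsIso (Spec.map (CommRingCat.ofHom eh)) := by
    have : IsIso (CommRingCat.ofHom eh) := e.toRingEquiv.toCommRingCatIso.isIso_hom
    infer_instance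
  have h5 : IsOpenImmersion (Spec.map (CommRingCat.ofHom (algebraMap B (Localization.Away r)))) :=
    IsOpenImmersion.of_isLocalization r
  constructor
  · intro h
    have h' : IsOpenImmersion (Spec.map (CommRingCat.ofHom
      (Localization.awayMap (φ : B →+* C) r))) := h
    rw [h3]
    infer_instance
  · intro h
    have h6 : Spec.map (CommRingCat.ofHom (Localization.awayMap (φ : B →+* C) r)) ≫
        Spec.map (CommRingCat.ofHom (algebraMap B (Localization.Away r))) =
        inv (Spec.map (CommRingCat.ofHom eh)) ≫
        Spec.map (CommRingCat.ofHom ((algebraMap C C').comp (φ : B →+* C))) := by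
      rw [h3, IsIso.inv_hom_id_assoc]
    have h7 : IsOpenImmersion (Spec.map (CommRingCat.ofHom
        (Localization.awayMap (φ : B →+* C) r)) ≫
        Spec.map (CommRingCat.ofHom (algebraMap B (Localization.Away r)))) := by
      rw [h6]
      infer_instance
    exact IsOpenImmersion.of_comp _
      (Spec.map (CommRingCat.ofHom (algebraMap B (Localization.Away r))))

theorem GenOpen.comp {π : R} {φ : B →ₐ[R] C} {ψ : C →ₐ[R] D} (hφ : GenOpen π φ)
    (hψ : GenOpen π ψ) : GenOpen π (ψ.comp φ) := by
  let C' := Localization.Away (algebraMap R C π)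
  let D' := Localization.Away (algebraMap R D π)
  rw [genOpen_iff π φ C'] at hφ
  rw [genOpen_iff π ψ D'] at hψ
  rw [genOpen_iff π (ψ.comp φ) D']
  have hu : IsUnit (((algebraMap D D').comp (ψ : C →+* D)) (algebraMap R C π)) := by
    have : ((algebraMap D D').comp (ψ : C →+* D)) (algebraMap R C π)
        = algebraMap D D' (algebraMap R D π) := congrArg (algebraMap D D') (ψ.commutes π)
    rw [this]
    exact IsLocalization.Away.algebraMap_isUnit _
  let m : C' →+* D' := IsLocalization.Away.lift (algebraMap R C π) hu
  have hm : m.comp (algebraMap C C') = (algebraMap D D').comp (ψ : C →+* D) :=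
    IsLocalization.Away.lift_comp _ hu
  have h5 : IsOpenImmersion (Spec.map (CommRingCat.ofHom (algebraMap C C'))) :=
    IsOpenImmersion.of_isLocalization (algebraMap R C π)
  have h6 : Spec.map (CommRingCat.ofHom m) ≫ Spec.map (CommRingCat.ofHom (algebraMap C C'))
      = Spec.map (CommRingCat.ofHom ((algebraMap D D').comp (ψ : C →+* D))) := by
    rw [← hm, ← Spec.map_comp]
    rfl
  have h7 : IsOpenImmersion (Spec.map (CommRingCat.ofHom m)) := by
    have : IsOpenImmersion (Spec.map (CommRingCat.ofHom m) ≫
        Spec.map (CommRingCat.ofHom (algebraMap C C'))) := by rw [h6]; exact hψ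
    exact IsOpenImmersion.of_comp _ (Spec.map (CommRingCat.ofHom (algebraMap C C')))
  have h8 : Spec.map (CommRingCat.ofHom ((algebraMap D D').comp
      ((ψ.comp φ : B →ₐ[R] D) : B →+* D)))
      = Spec.map (CommRingCat.ofHom m) ≫
        Spec.map (CommRingCat.ofHom ((algebraMap C C').comp (φ : B →+* C))) := by
    rw [← Spec.map_comp, ← CommRingCat.ofHom_comp, ← RingHom.comp_assoc, hm]
    rfl
  rw [h8]
  infer_instance

theorem genOpen_of_isOpenImmersion (π : R) (φ : B →ₐ[R] C)
    (h : IsOpenImmersion (Spec.map (CommRingCat.ofHom (φ : B →+* C)))) : GenOpen π φ := by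
  rw [genOpen_iff π φ (Localization.Away (algebraMap R C π)), CommRingCat.ofHom_comp,
    Spec.map_comp]
  have h5 : IsOpenImmersion (Spec.map (CommRingCat.ofHom
      (algebraMap C (Localization.Away (algebraMap R C π))))) :=
    IsOpenImmersion.of_isLocalization (algebraMap R C π)
  infer_instance

theorem genOpen_id (π : R) : GenOpen π (AlgHom.id R B) := by
  apply genOpen_of_isOpenImmersion
  have : CommRingCat.ofHom ((AlgHom.id R B : B →ₐ[R] B) : B →+* B) = 𝟙 _ := rfl
  rw [this, Spec.map_id]
  infer_instance

theorem genOpen_away (π : R) (f : B) :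
    GenOpen π (IsScalarTower.toAlgHom R B (Localization.Away f)) := by
  apply genOpen_of_isOpenImmersion
  exact IsOpenImmersion.of_isLocalization f

theorem genOpen_chi (π : R) (η : B) {c : Type} (z : c → B) : GenOpen π (Dilat.chi π η z) := by
  rw [genOpen_iff π (Dilat.chi π η z) (Dilat.Loc π η)]
  exact IsOpenImmersion.of_isLocalization (S := Dilat.Loc π η) (algebraMap R B π * η)

end Groth.Agent.Sga7.H113.GenOpen
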