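import Mathlib.RingTheory.Smooth.Field
import Mathlib.RingTheory.Localization.FractionRing
import Mathlib.LinearAlgebra.Dual.Lemmas

/-!
# Separability of function fields of varieties with dense rational points
-/

namespace Groth.Agent.Sga7.H113.GenSep

open scoped Pointwise

variable {k A K : Type*} [Field k] [CommRing A] [IsDomain A] [Algebra k A] [Field K]
  [Algebra k K] [Algebra A K] [IsScalarTower k A K] [IsFractionRing A K]

/-- If the `k`-points of `A` in `E` are dense, `p`-th powers of linearly independent
families of `Frac A` are linearly independent. -/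
theorem linearIndepOn_pow (p : ℕ) [hp : Fact p.Prime] [CharP k p] (E : Set (A →ₐ[k] k))
    (hE : ∀ f : A, (∀ e ∈ E, e f = 0) → f = 0) (s : Finset K)
    (hs : LinearIndepOn k _root_.id (s : Set K)) :
    LinearIndepOn k (fun x : K => x ^ p) (s : Set K) := by
  classical
  obtain ⟨d, hd⟩ := IsLocalization.exist_integer_multiples_of_finset (nonZeroDivisors A) s
  have hd0 : algebraMap A K d ≠ 0 := by
    simp [nonZeroDivisors.ne_zero d.2]
  choose a ha using hd
  -- `a x hx : A` with `algebraMap (a x) = d • x`
  have hs' : ∀ l : s → k, ∑ x : s, l x • (x : K) = 0 → ∀ x, l x = 0 := by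
    have h1 : LinearIndependent k (fun x : s => (x : K)) := hs
    intro l hl
    exact Fintype.linearIndependent_iff.1 h1 l hl
  rw [linearIndepOn_finset_iff]
  intro c hc
  let b : s → A := fun x => a x x.2
  have hb : ∀ x : s, algebraMap A K (b x) = algebraMap A K d * (x : K) := by
    intro x
    have := ha x x.2
    rw [this, Algebra.smul_def]
  have hcA : ∑ x : s, c x • (b x) ^ p = 0 := by
    apply IsFractionRing.injective A K
    rw [map_zero, map_sum]
    have : ∀ x : s, algebraMap A K (c x • (b x) ^ p)
        = (algebraMap A K d) ^ p * (c x • (x : K) ^ p) := by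
      intro x
      rw [Algebra.smul_def, map_mul, map_pow, hb, ← IsScalarTower.algebraMap_apply,
        Algebra.smul_def]
      ring
    rw [Finset.sum_congr rfl (fun x _ => this x), ← Finset.mul_sum]
    have h2 : ∑ x : s, c (x : K) • (x : K) ^ p = ∑ x ∈ s, c x • x ^ p :=
      Finset.sum_coe_sort s (fun x => c x • x ^ p)
    rw [h2, hc, mul_zero]
  -- the submodule `T`
  let T : Submodule k (s → k) :=
    { carrier := {v | ∑ x : s, c x * (v x) ^ p = 0}
      zero_mem' := by
        simp [hp.out.ne_zero]
      add_mem' := by
        intro v w hv hw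
        simp only [Set.mem_ofPred_eq, Pi.add_apply] at *
        have : ∀ x : s, c x * (v x + w x) ^ p = c x * (v x) ^ p + c x * (w x) ^ p := by
          intro x
          rw [add_pow_char]
          ring
        rw [Finset.sum_congr rfl (fun x _ => this x), Finset.sum_add_distrib, hv, hw, add_zero]
      smul_mem' := by
        intro r v hv
        simp only [Set.mem_ofPred_eq, Pi.smul_apply, smul_eq_mul] at *
        have : ∀ x : s, c x * (r * v x) ^ p = r ^ p * (c x * (v x) ^ p) := by
          intro x
          ring
        rw [Finset.sum_congr rfl (fun x _ => this x), ← Finset.mul_sum, hv, mul_zero] }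
  have hET : ∀ e ∈ E, (fun x : s => e (b x)) ∈ T := by
    intro e _
    change ∑ x : s, c x * (e (b x)) ^ p = 0
    have := congrArg e hcA
    rw [map_zero, map_sum] at this
    rw [← this]
    refine Finset.sum_congr rfl fun x _ => ?_
    rw [map_smul, smul_eq_mul, map_pow]
  have hT : T = ⊤ := by
    by_contra hne
    obtain ⟨l, hl0, hl⟩ := Submodule.exists_le_ker_of_lt_top T (lt_top_iff_ne_top.2 hne)
    have hl' : ∀ v : s → k, l v = ∑ x : s, v x * l (Pi.single x 1) := by
      intro v
      conv_lhs => rw [← (Pi.basisFun k s).sum_repr v]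
      rw [map_sum]
      refine Finset.sum_congr rfl fun x _ => ?_
      rw [map_smul, Pi.basisFun_repr, Pi.basisFun_apply, smul_eq_mul]
    have h1 : ∑ x : s, l (Pi.single x 1) • b x = 0 := by
      apply hE
      intro e he
      have := hl (hET e he)
      rw [LinearMap.mem_ker, hl'] at this
      rw [map_sum, ← this]
      refine Finset.sum_congr rfl fun x _ => ?_
      rw [map_smul, smul_eq_mul, mul_comm]
    have h2 : ∑ x : s, l (Pi.single x 1) • (x : K) = 0 := by
      have := congrArg (algebraMap A K) h1
      rw [map_zero, map_sum] at this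
      have h3 : ∀ x : s, algebraMap A K (l (Pi.single x 1) • b x)
          = (algebraMap A K d) * (l (Pi.single x 1) • (x : K)) := by
        intro x
        rw [Algebra.smul_def, map_mul, hb, ← IsScalarTower.algebraMap_apply, Algebra.smul_def]
        ring
      rw [Finset.sum_congr rfl (fun x _ => h3 x), ← Finset.mul_sum] at this
      exact (mul_eq_zero.1 this).resolve_left hd0
    have h3 := hs' _ h2
    apply hl0
    ext x
    simpa using h3 x
  intro x hx
  have h4 : (Pi.single (⟨x, hx⟩ : s) (1 : k)) ∈ T := by rw [hT]; trivial
  have h5 : ∑ y : s, c y * ((Pi.single (⟨x, hx⟩ : s) (1 : k) : s → k) y) ^ p = 0 := h4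
  rw [Finset.sum_eq_single ⟨x, hx⟩] at h5
  · simpa using h5
  · intro y _ hy
    rw [Pi.single_eq_of_ne hy, zero_pow hp.out.ne_zero, mul_zero]
  · intro h
    exact absurd (Finset.mem_univ _) h

/-- A finitely generated function field with dense rational points is formally smooth. -/
theorem formallySmooth_of_points [Algebra.EssFiniteType k K] (E : Set (A →ₐ[k] k))
    (hE : ∀ f : A, (∀ e ∈ E, e f = 0) → f = 0) : Algebra.FormallySmooth k K := by
  obtain _ | ⟨p, hp, hpk⟩ := CharP.exists' k
  · infer_instance
  · have : ExpChar k p := .prime hp.out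
    obtain ⟨s, hs, H⟩ :=
      exists_isTranscendenceBasis_and_isSeparable_of_linearIndepOn_pow_of_essFiniteType
        (k := k) (K := K) p hp.out (fun s hs => linearIndepOn_pow (A := A) p E hE s hs)
    have : Algebra.IsSeparable (↥(IntermediateField.adjoin k (Set.range ((↑) : s → K)))) K := by
      convert! H <;> simp
    exact .of_algebraicIndependent_of_isSeparable hs.1

end Groth.Agent.Sga7.H113.GenSep
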