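import Groth.Agent.Sga7.H113.GenSep
import Mathlib.RingTheory.Smooth.Basic
import Mathlib.RingTheory.Kaehler.Polynomial
import Mathlib.RingTheory.LocalRing.ResidueField.Ideal
import Mathlib.RingTheory.Localization.Ideal

/-!
# Jacobian criterion at a prime with separable residue field
-/

namespace Groth.Agent.Sga7.H113.GenSep2

open TensorProduct KaehlerDifferential

variable {k : Type*} [Field k] {n : ℕ}

theorem D_mem (J : Ideal (MvPolynomial (Fin n) k)) (f : MvPolynomial (Fin n) k)
    (hd : ∀ i, MvPolynomial.pderiv i f ∈ J) :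
    D k (MvPolynomial (Fin n) k) f ∈
      (J • ⊤ : Submodule (MvPolynomial (Fin n) k) (Ω[MvPolynomial (Fin n) k⁄k])) := by
  have h := (KaehlerDifferential.mvPolynomialBasis k (Fin n)).sum_repr
    (D k (MvPolynomial (Fin n) k) f)
  rw [← h]
  refine Submodule.sum_mem _ fun i _ => ?_
  rw [KaehlerDifferential.mvPolynomialBasis_repr_apply]
  exact Submodule.smul_mem_smul (hd i) trivial

theorem exists_mul_mem_sq (J : Ideal (MvPolynomial (Fin n) k)) [J.IsPrime]
    (hsm : Algebra.FormallySmooth k J.ResidueField) (f : MvPolynomial (Fin n) k) (hf : f ∈ J)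
    (hd : ∀ i, MvPolynomial.pderiv i f ∈ J) : ∃ h ∉ J, h * f ∈ J ^ 2 := by
  let P := MvPolynomial (Fin n) k
  let S := Localization.AtPrime J
  have hS : Algebra.FormallySmooth P S := .of_isLocalization J.primeCompl
  have hS' : Algebra.FormallySmooth k S := .comp k P S
  have hsurj : Function.Surjective (algebraMap S J.ResidueField) := IsLocalRing.residue_surjective
  have hinj : Function.Injective (kerCotangentToTensor k S J.ResidueField) := by
    obtain ⟨l, hl⟩ := (Algebra.FormallySmooth.iff_split_injection (R := k) (P := S) hsurj).1 hsm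
    intro x y hxy
    have hx := LinearMap.congr_fun hl x
    have hy := LinearMap.congr_fun hl y
    simp only [LinearMap.comp_apply, LinearMap.id_apply] at hx hy
    rw [← hx, ← hy, hxy]
  have hfm : algebraMap P S f ∈ RingHom.ker (algebraMap S J.ResidueField) := by
    rw [RingHom.mem_ker, ← IsScalarTower.algebraMap_apply]
    exact (Ideal.algebraMap_residueField_eq_zero).2 hf
  have h0 : kerCotangentToTensor k S J.ResidueField (Ideal.toCotangent _ ⟨_, hfm⟩) = 0 := by
    rw [kerCotangentToTensor_toCotangent]
    change (1 : J.ResidueField) ⊗ₜ[S] D k S (algebraMap P S f) = 0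
    have h1 : D k S (algebraMap P S f) = KaehlerDifferential.map k k P S (D k P f) := by
      rw [KaehlerDifferential.map_D]
    have h2 : ∀ w ∈ (J • ⊤ : Submodule P (Ω[P⁄k])),
        (1 : J.ResidueField) ⊗ₜ[S] (KaehlerDifferential.map k k P S w) = 0 := by
      intro w hw
      refine Submodule.smul_induction_on hw ?_ ?_
      · intro r hr x _
        have hr0 : algebraMap P J.ResidueField r = 0 :=
          (Ideal.algebraMap_residueField_eq_zero).2 hr
        rw [LinearMap.map_smul, ← IsScalarTower.algebraMap_smul S r, TensorProduct.tmul_smul,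
          TensorProduct.smul_tmul', Algebra.smul_def, mul_one, ← IsScalarTower.algebraMap_apply,
          hr0, TensorProduct.zero_tmul]
      · intro x y hx hy
        rw [map_add, TensorProduct.tmul_add, hx, hy, add_zero]
    rw [h1]
    exact h2 _ (D_mem J f hd)
  have h3 : Ideal.toCotangent (RingHom.ker (algebraMap S J.ResidueField)) ⟨_, hfm⟩ = 0 :=
    hinj (by rw [h0, map_zero])
  rw [Ideal.toCotangent_eq_zero] at h3
  have h4 : RingHom.ker (algebraMap S J.ResidueField) = Ideal.map (algebraMap P S) J := by
    rw [Localization.AtPrime.map_eq_maximalIdeal]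
    exact IsLocalRing.ker_residue
  simp only at h3
  rw [h4, ← Ideal.map_pow, IsLocalization.mem_map_algebraMap_iff J.primeCompl] at h3
  obtain ⟨⟨⟨a, ha⟩, ⟨s, hs⟩⟩, h5⟩ := h3
  simp only at h5
  rw [← map_mul] at h5
  obtain ⟨c, hc⟩ := (IsLocalization.eq_iff_exists J.primeCompl S).1 h5
  refine ⟨c * s, ?_, ?_⟩
  · intro h
    rcases (inferInstance : J.IsPrime).mem_or_mem h with h | h
    · exact c.2 h
    · exact hs h
  · have : (c : P) * s * f = c * a := by
      rw [← hc]; ring
    rw [this]
    exact Ideal.mul_mem_left _ _ ha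

end Groth.Agent.Sga7.H113.GenSep2
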