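import Groth.Agent.Sga7.H113.GenSep2
import Mathlib.RingTheory.DiscreteValuationRing.Basic
import Mathlib.RingTheory.LocalRing.ResidueField.Basic
import Mathlib.RingTheory.Polynomial.Basic

/-!
# The Jacobian criterion on the special fibre, with dense integral points
-/

namespace Groth.Agent.Sga7.H113.GenSep3

open MvPolynomial

variable {R : Type*} [CommRing R] [IsDomain R] [IsDiscreteValuationRing R] {n : ℕ}

/-- Reduction modulo the maximal ideal. -/
noncomputable abbrev redn (R : Type*) [CommRing R] [IsLocalRing R] (n : ℕ) :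
    MvPolynomial (Fin n) R →+* MvPolynomial (Fin n) (IsLocalRing.ResidueField R) :=
  MvPolynomial.map (IsLocalRing.residue R)

theorem redn_surjective : Function.Surjective (redn R n) :=
  MvPolynomial.map_surjective _ IsLocalRing.residue_surjective

theorem ker_redn {π : R} (hπ : Irreducible π) :
    RingHom.ker (redn R n) = Ideal.span {C π} := by
  rw [MvPolynomial.ker_map, IsLocalRing.ker_residue, hπ.maximalIdeal_eq, Ideal.map_span,
    Set.image_singleton]

/-- The point of the special fibre induced by an integral point. -/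
noncomputable def redPt (a : MvPolynomial (Fin n) R →ₐ[R] R) :
    MvPolynomial (Fin n) (IsLocalRing.ResidueField R) →ₐ[IsLocalRing.ResidueField R]
      IsLocalRing.ResidueField R :=
  MvPolynomial.aeval (fun i => IsLocalRing.residue R (a (X i)))

theorem redPt_redn (a : MvPolynomial (Fin n) R →ₐ[R] R) (f : MvPolynomial (Fin n) R) :
    redPt a (redn R n f) = IsLocalRing.residue R (a f) := by
  have : (redPt a : _ →+* _).comp (redn R n) = (IsLocalRing.residue R).comp (a : _ →+* R) := by
    apply MvPolynomial.ringHom_ext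
    · intro r
      have h1 : a (C r) = r := a.commutes r
      simp [h1, redPt]
    · intro i
      simp [redPt]
  exact congrArg (fun g => g f) this

theorem exists_mul_mem {π : R} (hπ : Irreducible π)
    (J : Ideal (MvPolynomial (Fin n) R)) [hJ : J.IsPrime] (hπJ : C π ∈ J)
    (E : Set (MvPolynomial (Fin n) R →ₐ[R] R))
    (hEJ : ∀ a ∈ E, ∀ f ∈ J, π ∣ a f) (hdense : ∀ f, (∀ a ∈ E, π ∣ a f) → f ∈ J)
    (f : MvPolynomial (Fin n) R) (hf : f ∈ J) (hd : ∀ i, pderiv i f ∈ J) :
    ∃ h ∉ J, h * f ∈ J ^ 2 ⊔ Ideal.span {C π} := by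
  let k := IsLocalRing.ResidueField R
  let P := MvPolynomial (Fin n) k
  have hker : RingHom.ker (redn R n) ≤ J := by
    rw [ker_redn hπ, Ideal.span_le, Set.singleton_subset_iff]
    exact hπJ
  let J' : Ideal P := J.map (redn R n)
  have hJ' : J'.IsPrime := Ideal.map_isPrime_of_surjective redn_surjective hker
  have hcomap : J'.comap (redn R n) = J := by
    rw [Ideal.comap_map_of_surjective' _ redn_surjective, sup_eq_left]
    exact hker
  have hmem : ∀ g, redn R n g ∈ J' ↔ g ∈ J := by
    intro g
    rw [← Ideal.mem_comap, hcomap]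
  have hres : ∀ r : R, IsLocalRing.residue R r = 0 ↔ π ∣ r := by
    intro r
    rw [IsLocalRing.residue_eq_zero_iff, hπ.maximalIdeal_eq, Ideal.mem_span_singleton]
  -- the points of the quotient
  have hpt0 : ∀ a ∈ E, ∀ g ∈ J', redPt a g = 0 := by
    intro a ha g hg
    obtain ⟨g, rfl⟩ := redn_surjective g
    rw [redPt_redn, hres]
    exact hEJ a ha g ((hmem g).1 hg)
  let E' : Set ((P ⧸ J') →ₐ[k] k) := {e | ∃ a ∈ E, ∀ g, e (Ideal.Quotient.mk J' g) = redPt a g}
  have hE' : ∀ g : P ⧸ J', (∀ e ∈ E', e g = 0) → g = 0 := by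
    intro g hg
    obtain ⟨g, rfl⟩ := Ideal.Quotient.mk_surjective g
    obtain ⟨g, rfl⟩ := redn_surjective g
    rw [Ideal.Quotient.eq_zero_iff_mem, hmem]
    apply hdense
    intro a ha
    rw [← hres, ← redPt_redn]
    exact hg (Ideal.Quotient.liftₐ J' (redPt a) (hpt0 a ha)) ⟨a, ha, fun g => rfl⟩
  have hess : Algebra.EssFiniteType k J'.ResidueField := .comp k P _
  have hsm : Algebra.FormallySmooth k J'.ResidueField :=
    GenSep.formallySmooth_of_points (A := P ⧸ J') E' hE'
  obtain ⟨h, hh, hhf⟩ := GenSep2.exists_mul_mem_sq J' hsm (redn R n f) ((hmem f).2 hf)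
    (fun i => by
      rw [redn, MvPolynomial.pderiv_map]
      exact (hmem _).2 (hd i))
  obtain ⟨h, rfl⟩ := redn_surjective h
  refine ⟨h, fun h' => hh ((hmem h).2 h'), ?_⟩
  rw [← map_mul, ← Ideal.map_pow, ← Ideal.mem_comap,
    Ideal.comap_map_of_surjective' _ redn_surjective, ker_redn hπ] at hhf
  exact hhf

end Groth.Agent.Sga7.H113.GenSep3
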