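import Mathlib.RingTheory.Length
import Mathlib.RingTheory.DiscreteValuationRing.Basic
import Mathlib.Algebra.Module.Torsion.Basic
import Mathlib.RingTheory.Nakayama
import Groth.Agent.CycB.KeyLat

/-!
# Néron smoothening: torsion lengths over a discrete valuation ring

* `tlen R N`: the length of the torsion submodule of `N`.
* `tlen_lt`: the abstract form of the decrease of Néron's measure under a dilatation.
* `tlen_le_of_killed`: a uniform bound.
-/

set_option autoImplicit false

namespace Groth.Agent.Sga7.H113.Lattice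

variable (R : Type*) [CommRing R] [IsDomain R] [IsDiscreteValuationRing R]

/-- the length of the torsion submodule -/
noncomputable def tlen (N : Type*) [AddCommGroup N] [Module R N] : ℕ∞ :=
  Module.length R (Submodule.torsion R N)

variable {R}

theorem mem_torsion_iff {N : Type*} [AddCommGroup N] [Module R N] (x : N) :
    x ∈ Submodule.torsion R N ↔ ∃ r : R, r ≠ 0 ∧ r • x = 0 := by
  rw [Submodule.mem_torsion_iff]
  constructor
  · rintro ⟨a, ha⟩
    exact ⟨a, nonZeroDivisors.coe_ne_zero a, ha⟩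
  · rintro ⟨r, hr, hx⟩
    exact ⟨⟨r, mem_nonZeroDivisors_of_ne_zero hr⟩, hx⟩

theorem mem_torsion_iff_pow {π : R} (hπ : Irreducible π) {N : Type*} [AddCommGroup N] [Module R N]
    (x : N) : x ∈ Submodule.torsion R N ↔ ∃ n : ℕ, π ^ n • x = 0 := by
  rw [mem_torsion_iff]
  constructor
  · rintro ⟨r, hr, hx⟩
    obtain ⟨n, u, rfl⟩ := IsDiscreteValuationRing.eq_unit_mul_pow_irreducible hr hπ
    refine ⟨n, ?_⟩
    have h2 : (↑u⁻¹ : R) • (((u : R) * π ^ n) • x) = 0 := by rw [hx, smul_zero]
    rwa [smul_smul, ← mul_assoc, Units.inv_mul, one_mul] at h2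
  · rintro ⟨n, hx⟩
    exact ⟨π ^ n, pow_ne_zero _ hπ.ne_zero, hx⟩

theorem tlen_ne_top (N : Type*) [AddCommGroup N] [Module R N] [Module.Finite R N] :
    tlen R N ≠ ⊤ := by
  have : Module.Finite R (Submodule.torsion R N) := Module.IsNoetherian.finite R _
  apply Groth.Agent.CycB.KeyLat.length_ne_top_of_fg_of_torsion
  rintro ⟨v, hv⟩
  obtain ⟨π, hπ⟩ := IsDiscreteValuationRing.exists_irreducible R
  obtain ⟨n, hn⟩ := (mem_torsion_iff_pow hπ v).1 hv
  refine ⟨n, fun r hr => ?_⟩
  rw [hπ.maximalIdeal_eq, Ideal.span_singleton_pow, Ideal.mem_span_singleton'] at hr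
  obtain ⟨b, rfl⟩ := hr
  apply Subtype.ext
  change (b * π ^ n) • v = 0
  rw [mul_smul, hn, smul_zero]

theorem tlen_eq_zero_iff (N : Type*) [AddCommGroup N] [Module R N] :
    tlen R N = 0 ↔ Submodule.torsion R N = ⊥ := by
  rw [tlen, Module.length_eq_zero_iff, Submodule.subsingleton_iff_eq_bot]

theorem tlen_congr {N N' : Type*} [AddCommGroup N] [Module R N] [AddCommGroup N'] [Module R N']
    (e : N ≃ₗ[R] N') : tlen R N = tlen R N' := by
  have h : ∀ x : N, x ∈ Submodule.torsion R N ↔ e x ∈ Submodule.torsion R N' := by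
    intro x
    rw [mem_torsion_iff, mem_torsion_iff]
    constructor
    · rintro ⟨r, hr, hx⟩
      exact ⟨r, hr, by rw [← map_smul, hx, map_zero]⟩
    · rintro ⟨r, hr, hx⟩
      exact ⟨r, hr, by rwa [← map_smul, LinearEquiv.map_eq_zero_iff] at hx⟩
  have h2 : (Submodule.torsion R N).map (e : N →ₗ[R] N') = Submodule.torsion R N' := by
    ext y
    constructor
    · rintro ⟨x, hx, rfl⟩
      exact (h x).1 hx
    · intro hy
      refine ⟨e.symm y, (h _).2 (by rwa [e.apply_symm_apply]), e.apply_symm_apply y⟩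
  exact LinearEquiv.length_eq (e.ofSubmodules _ _ h2)

/-- **Decrease of Néron's measure, abstract form.** `N = F / L`, `N'` is a quotient of a submodule
`F'` of `F` by a submodule containing `L` with the same saturation; `L` is generated by a saturated
submodule `G` and by `π`-multiples of elements of `ker (F' → N')`. If `N` has torsion then the
torsion of `N'` has smaller length. -/
theorem tlen_lt {π : R} (hπ : Irreducible π) {F N N' : Type*} [AddCommGroup F] [Module R F]
    [AddCommGroup N] [Module R N] [AddCommGroup N'] [Module R N'] [Module.Finite R F]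
    (lam : F →ₗ[R] N) (hlam : Function.Surjective lam)
    (F' : Submodule R F) (θ : F' →ₗ[R] N') (hθ : Function.Surjective θ)
    (G : Submodule R F) (hG : G ≤ LinearMap.ker lam)
    (hGs : ∀ x : F, π • x ∈ G → x ∈ G)
    (h1 : ∀ x : F, lam x = 0 → ∃ hx : x ∈ F', θ ⟨x, hx⟩ = 0)
    (h2 : ∀ x : F, lam x = 0 → ∃ g ∈ G, ∃ y : F', θ y = 0 ∧ x = g + π • (y : F))
    (h3 : ∀ x : F', θ x = 0 → ∃ n : ℕ, lam (π ^ n • (x : F)) = 0)
    (hN : tlen R N ≠ 0) : tlen R N' < tlen R N := by
  have hfinN : Module.Finite R N := Module.Finite.of_surjective lam hlam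
  -- the submodule `L'' = θ.ker` of `F`
  let L' : Submodule R F := (LinearMap.ker θ).map F'.subtype
  have hL' : ∀ x : F, x ∈ L' ↔ ∃ hx : x ∈ F', θ ⟨x, hx⟩ = 0 := by
    intro x
    constructor
    · rintro ⟨⟨y, hy⟩, hy2, rfl⟩
      exact ⟨hy, hy2⟩
    · rintro ⟨hx, h⟩
      exact ⟨⟨x, hx⟩, h, rfl⟩
  have hLL' : LinearMap.ker lam ≤ L' := fun x hx => (hL' x).2 (h1 x hx)
  have hne : LinearMap.ker lam ≠ L' := by
    intro heq
    apply hN
    have hle : LinearMap.ker lam ≤ G := by
      have hfg : (LinearMap.ker lam).FG := IsNoetherian.noetherian _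
      refine Submodule.le_of_le_smul_of_le_jacobson_bot (I := IsLocalRing.maximalIdeal R) hfg
        (IsLocalRing.maximalIdeal_le_jacobson _) ?_
      intro x hx
      obtain ⟨g, hg, y, hy, rfl⟩ := h2 x hx
      refine Submodule.add_mem_sup hg ?_
      refine Submodule.smul_mem_smul ?_ ?_
      · rw [hπ.maximalIdeal_eq]
        exact Ideal.mem_span_singleton_self π
      · rw [heq]
        exact (hL' _).2 ⟨y.2, hy⟩
    rw [tlen_eq_zero_iff, eq_bot_iff]
    intro x hx
    obtain ⟨x, rfl⟩ := hlam x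
    obtain ⟨n, hn⟩ := (mem_torsion_iff_pow hπ _).1 hx
    rw [← map_smul] at hn
    have h5 : π ^ n • x ∈ G := hle hn
    have h6 : ∀ n : ℕ, ∀ x : F, π ^ n • x ∈ G → x ∈ G := by
      intro n
      induction n with
      | zero => intro x hx; simpa using hx
      | succ n ih =>
        intro x hx
        rw [pow_succ, mul_smul] at hx
        exact hGs x (ih _ hx)
    exact hG (h6 n x h5)
  -- maps
  let N₁ := F ⧸ L'
  let q : N →ₗ[R] N₁ :=
    (Submodule.factor hLL').comp (lam.quotKerEquivOfSurjective hlam).symm.toLinearMap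
  have hq : ∀ x : F, q (lam x) = Submodule.Quotient.mk x := by
    intro x
    have : (lam.quotKerEquivOfSurjective hlam).symm (lam x) = Submodule.Quotient.mk x := by
      rw [LinearEquiv.symm_apply_eq]
      rfl
    change Submodule.factor hLL' ((lam.quotKerEquivOfSurjective hlam).symm (lam x)) = _
    rw [this]
    rfl
  have htor : ∀ x : F, (Submodule.Quotient.mk x : N₁) ∈ Submodule.torsion R N₁ →
      lam x ∈ Submodule.torsion R N := by
    intro x hx
    obtain ⟨n, hn⟩ := (mem_torsion_iff_pow hπ _).1 hx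
    rw [← Submodule.Quotient.mk_smul, Submodule.Quotient.mk_eq_zero, hL'] at hn
    obtain ⟨hx2, hx3⟩ := hn
    obtain ⟨m, hm⟩ := h3 _ hx3
    refine (mem_torsion_iff_pow hπ _).2 ⟨m + n, ?_⟩
    rw [← map_smul, pow_add, mul_smul]
    exact hm
  have hqt : ∀ x ∈ Submodule.torsion R N, q x ∈ Submodule.torsion R N₁ := by
    intro x hx
    obtain ⟨n, hn⟩ := (mem_torsion_iff_pow hπ _).1 hx
    exact (mem_torsion_iff_pow hπ _).2 ⟨n, by rw [← map_smul, hn, map_zero]⟩
  let qt : Submodule.torsion R N →ₗ[R] Submodule.torsion R N₁ := q.restrict hqt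
  have hqts : Function.Surjective qt := by
    rintro ⟨y, hy⟩
    obtain ⟨x, rfl⟩ := Submodule.Quotient.mk_surjective _ y
    exact ⟨⟨lam x, htor x hy⟩, Subtype.ext (hq x)⟩
  -- the kernel of `qt` is nonzero
  have hker : Nontrivial (LinearMap.ker qt) := by
    obtain ⟨x, hxL', hxL⟩ : ∃ x ∈ L', x ∉ LinearMap.ker lam := by
      by_contra hcon
      push Not at hcon
      exact hne (le_antisymm hLL' hcon)
    rw [Submodule.nontrivial_iff_ne_bot, Submodule.ne_bot_iff]
    have h0 : (Submodule.Quotient.mk x : N₁) = 0 := (Submodule.Quotient.mk_eq_zero _).2 hxL'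
    refine ⟨⟨lam x, htor x (by rw [h0]; exact Submodule.zero_mem _)⟩, ?_, ?_⟩
    · apply Subtype.ext
      change q (lam x) = 0
      rw [hq, h0]
    · intro h
      exact hxL (congrArg Subtype.val h)
  have hlt : tlen R N₁ < tlen R N := by
    have hadd := Module.length_eq_add_of_exact (LinearMap.ker qt).subtype qt
      Subtype.val_injective hqts (LinearMap.exact_subtype_ker_map qt)
    have hpos : 0 < Module.length R (LinearMap.ker qt) := Module.length_pos
    have htop : Module.length R (Submodule.torsion R N) ≠ ⊤ := tlen_ne_top N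
    change Module.length R (Submodule.torsion R N₁) < Module.length R (Submodule.torsion R N)
    rw [hadd] at htop ⊢
    have h8 : Module.length R (Submodule.torsion R N₁) ≠ ⊤ := by
      intro h
      apply htop
      rw [h, add_top]
    calc Module.length R (Submodule.torsion R N₁) =
          0 + Module.length R (Submodule.torsion R N₁) := by rw [zero_add]
      _ < _ := (ENat.add_lt_add_iff_right h8).2 hpos
  refine lt_of_le_of_lt ?_ hlt
  -- `N' → N₁` injective
  have hle : LinearMap.ker θ ≤ L'.comap F'.subtype := by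
    rintro ⟨x, hx⟩ h
    exact (hL' x).2 ⟨hx, h⟩
  let j : N' →ₗ[R] N₁ :=
    ((LinearMap.ker θ).mapQ L' F'.subtype hle).comp
      (θ.quotKerEquivOfSurjective hθ).symm.toLinearMap
  have hj : ∀ x : F', j (θ x) = Submodule.Quotient.mk (x : F) := by
    intro x
    have : (θ.quotKerEquivOfSurjective hθ).symm (θ x) = Submodule.Quotient.mk x := by
      rw [LinearEquiv.symm_apply_eq]
      rfl
    change (LinearMap.ker θ).mapQ L' F'.subtype hle ((θ.quotKerEquivOfSurjective hθ).symm (θ x)) = _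
    rw [this]
    rfl
  have hjinj : Function.Injective j := by
    rw [← LinearMap.ker_eq_bot, eq_bot_iff]
    intro y hy
    obtain ⟨x, rfl⟩ := hθ y
    have h9 : (Submodule.Quotient.mk (x : F) : N₁) = 0 := by rw [← hj]; exact hy
    rw [Submodule.Quotient.mk_eq_zero, hL'] at h9
    obtain ⟨h10, h11⟩ := h9
    exact h11
  have hjt : ∀ x ∈ Submodule.torsion R N', j x ∈ Submodule.torsion R N₁ := by
    intro x hx
    obtain ⟨n, hn⟩ := (mem_torsion_iff_pow hπ _).1 hx
    exact (mem_torsion_iff_pow hπ _).2 ⟨n, by rw [← map_smul, hn, map_zero]⟩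
  refine Module.length_le_of_injective (j.restrict hjt) ?_
  intro x y hxy
  apply Subtype.ext
  exact hjinj (congrArg Subtype.val hxy)

/-- Version of `tlen_lt` where the submodule `F'` is the range of a linear map `Ξ`. -/
theorem tlen_lt' {π : R} (hπ : Irreducible π) {F N N' M : Type*} [AddCommGroup F] [Module R F]
    [AddCommGroup N] [Module R N] [AddCommGroup N'] [Module R N'] [AddCommGroup M] [Module R M]
    [Module.Finite R F]
    (lam : F →ₗ[R] N) (hlam : Function.Surjective lam)
    (Ξ : M →ₗ[R] F) (Θ : M →ₗ[R] N') (hΘ : Function.Surjective Θ)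
    (hΞΘ : ∀ m, Ξ m = 0 → Θ m = 0)
    (G : Submodule R F) (hG : G ≤ LinearMap.ker lam)
    (hGs : ∀ x : F, π • x ∈ G → x ∈ G)
    (h1 : ∀ x : F, lam x = 0 → ∃ m, Ξ m = x ∧ Θ m = 0)
    (h2 : ∀ x : F, lam x = 0 → ∃ g ∈ G, ∃ m, Θ m = 0 ∧ x = g + π • Ξ m)
    (h3 : ∀ m, Θ m = 0 → ∃ n : ℕ, lam (π ^ n • Ξ m) = 0)
    (hN : tlen R N ≠ 0) : tlen R N' < tlen R N := by
  have hle : LinearMap.ker Ξ ≤ LinearMap.ker Θ := fun m hm => hΞΘ m hm
  let θ : LinearMap.range Ξ →ₗ[R] N' :=
    ((LinearMap.ker Ξ).liftQ Θ hle).comp Ξ.quotKerEquivRange.symm.toLinearMap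
  have hθ : ∀ (m : M) (hm : Ξ m ∈ LinearMap.range Ξ), θ ⟨Ξ m, hm⟩ = Θ m := by
    intro m hm
    have : Ξ.quotKerEquivRange.symm ⟨Ξ m, hm⟩ = Submodule.Quotient.mk m := by
      rw [LinearEquiv.symm_apply_eq]
      rfl
    change (LinearMap.ker Ξ).liftQ Θ hle (Ξ.quotKerEquivRange.symm ⟨Ξ m, hm⟩) = _
    rw [this]
    rfl
  refine tlen_lt hπ lam hlam (LinearMap.range Ξ) θ ?_ G hG hGs ?_ ?_ ?_ hN
  · intro y
    obtain ⟨m, rfl⟩ := hΘ y
    exact ⟨⟨Ξ m, m, rfl⟩, hθ m _⟩
  · intro x hx
    obtain ⟨m, rfl, hm⟩ := h1 x hx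
    exact ⟨LinearMap.mem_range_self Ξ m, (hθ m _).trans hm⟩
  · intro x hx
    obtain ⟨g, hg, m, hm, rfl⟩ := h2 x hx
    exact ⟨g, hg, ⟨Ξ m, LinearMap.mem_range_self Ξ m⟩, (hθ m _).trans hm, rfl⟩
  · rintro ⟨x, m, rfl⟩ hx
    exact h3 m ((hθ m _).symm.trans hx)

/-- uniform bound for the torsion length of a module generated by `n` elements whose torsion is
killed by `π ^ m`. -/
theorem tlen_le_of_killed {π : R} (hπ : Irreducible π) (n m : ℕ) :
    ∃ C : ℕ, ∀ (N : Type*) [AddCommGroup N] [Module R N] (p : (Fin n → R) →ₗ[R] N),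
      Function.Surjective p → (∀ x ∈ Submodule.torsion R N, π ^ m • x = 0) → tlen R N ≤ C := by
  let Q := (Fin n → R ⧸ Ideal.span {π ^ m})
  have hQ : Module.length R Q ≠ ⊤ := by
    apply Groth.Agent.CycB.KeyLat.length_ne_top_of_fg_of_torsion
    intro v
    refine ⟨m, fun r hr => ?_⟩
    rw [hπ.maximalIdeal_eq, Ideal.span_singleton_pow] at hr
    funext i
    obtain ⟨b, hb⟩ := Ideal.Quotient.mk_surjective (v i)
    change r • v i = 0
    rw [← hb, Algebra.smul_def, Ideal.Quotient.algebraMap_eq, ← map_mul,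
      Ideal.Quotient.eq_zero_iff_mem]
    exact Ideal.mul_mem_right _ _ hr
  obtain ⟨C, hC⟩ := ENat.ne_top_iff_exists.1 hQ
  refine ⟨C, fun N _ _ p hp hkill => ?_⟩
  rw [hC]
  -- `Q` surjects onto `N / π^m N`
  let S : Submodule R N := LinearMap.range (LinearMap.lsmul R N (π ^ m))
  have h1 : Module.length R (Submodule.torsion R N) ≤ Module.length R (N ⧸ S) := by
    refine Module.length_le_of_injective (S.mkQ.comp (Submodule.torsion R N).subtype) ?_
    rw [← LinearMap.ker_eq_bot, eq_bot_iff]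
    rintro ⟨x, hx⟩ h
    have h2 : x ∈ S := (Submodule.Quotient.mk_eq_zero S).1 h
    obtain ⟨y, rfl⟩ := h2
    have hy : y ∈ Submodule.torsion R N := by
      obtain ⟨k, hk⟩ := (mem_torsion_iff_pow hπ _).1 hx
      refine (mem_torsion_iff_pow hπ _).2 ⟨k + m, ?_⟩
      rw [pow_add, mul_smul]
      exact hk
    apply Subtype.ext
    exact hkill y hy
  refine h1.trans ?_
  let f : (Fin n → R) →ₗ[R] N ⧸ S := S.mkQ.comp p
  let g : (Fin n → R) →ₗ[R] Q :=
    LinearMap.pi fun i => (Ideal.span {π ^ m}).mkQ.comp (LinearMap.proj i)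
  have hg : Function.Surjective g := by
    intro v
    choose w hw using fun i => Ideal.Quotient.mk_surjective (v i)
    exact ⟨w, funext hw⟩
  have hker : LinearMap.ker g ≤ LinearMap.ker f := by
    intro w hw
    have hw2 : ∀ i, ∃ b, b * π ^ m = w i := by
      intro i
      have : (Ideal.Quotient.mk (Ideal.span {π ^ m})) (w i) = 0 := congrFun hw i
      rw [Ideal.Quotient.eq_zero_iff_mem, Ideal.mem_span_singleton'] at this
      exact this
    choose b hb using hw2
    have : w = π ^ m • b := by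
      funext i
      rw [← hb i, mul_comm]
      rfl
    rw [this]
    change S.mkQ (p (π ^ m • b)) = 0
    rw [map_smul]
    exact (Submodule.Quotient.mk_eq_zero S).2 ⟨p b, rfl⟩
  have hsurj : Function.Surjective ((LinearMap.ker g).liftQ f hker) := by
    intro y
    obtain ⟨y, rfl⟩ := Submodule.Quotient.mk_surjective _ y
    obtain ⟨w, rfl⟩ := hp y
    exact ⟨Submodule.Quotient.mk w, rfl⟩
  have h3 : Module.length R (N ⧸ S) ≤ Module.length R ((Fin n → R) ⧸ LinearMap.ker g) :=
    Module.length_le_of_surjective _ hsurj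
  exact h3.trans (LinearEquiv.length_eq (g.quotKerEquivOfSurjective hg)).le

end Groth.Agent.Sga7.H113.Lattice
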