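import Groth.Agent.Sga7.H113.GenOpen
import Groth.Agent.Sga7.H113.GenCoord2
import Groth.Agent.Sga7.H113.Bound
import Groth.Agent.Sga7.H113.Drop
import Mathlib.RingTheory.Ideal.AssociatedPrime.Basic

/-!
# Néron smoothening of affine algebras over a discrete valuation ring
-/

set_option autoImplicit false

namespace Groth.Agent.Sga7.H113.Main

open Groth.Agent.Sga7.H113.Cot Groth.Agent.Sga7.H113.Lattice Groth.Agent.Sga7.H113.Dilat
  Groth.Agent.Sga7.H113.GenOpen Groth.Agent.Sga7.H113.Drop

universe u

variable {R : Type u} [CommRing R]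

/-- A smooth chart of `B`: a smooth algebra with a map from `B` which is an open immersion
on the generic fibre. -/
structure Chart (π : R) (B : Type u) [CommRing B] [Algebra R B] where
  /-- the smooth algebra -/
  C : Type u
  [ring : CommRing C]
  [alg : Algebra R C]
  smooth : Algebra.Smooth R C
  /-- the map -/
  φ : B →ₐ[R] C
  gen : GenOpen π φ

attribute [instance] Chart.ring Chart.alg

/-- The points in `E` are covered by finitely many smooth charts. -/
def Covered (π : R) (B : Type u) [CommRing B] [Algebra R B] (E : Set (B →ₐ[R] R)) : Prop :=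
  ∃ l : List (Chart π B), ∀ a ∈ E, ∃ c ∈ l, ∃ b : c.C →ₐ[R] R, b.comp c.φ = a

variable {π : R} {B : Type u} [CommRing B] [Algebra R B]

theorem Covered.empty : Covered π B ∅ := ⟨[], fun _ h => h.elim⟩

theorem Covered.mono {E E' : Set (B →ₐ[R] R)} (h : E ⊆ E') (hE' : Covered π B E') :
    Covered π B E := by
  obtain ⟨l, hl⟩ := hE'
  exact ⟨l, fun a ha => hl a (h ha)⟩

theorem Covered.union {E E' : Set (B →ₐ[R] R)} (hE : Covered π B E) (hE' : Covered π B E') :
    Covered π B (E ∪ E') := by
  obtain ⟨l, hl⟩ := hE
  obtain ⟨l', hl'⟩ := hE'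
  refine ⟨l ++ l', fun a ha => ?_⟩
  rcases ha with ha | ha
  · obtain ⟨c, hc, h⟩ := hl a ha
    exact ⟨c, List.mem_append_left _ hc, h⟩
  · obtain ⟨c, hc, h⟩ := hl' a ha
    exact ⟨c, List.mem_append_right _ hc, h⟩

/-- Pullback of a chart along a map. -/
def Chart.pull {B' : Type u} [CommRing B'] [Algebra R B'] (χ : B →ₐ[R] B') (hχ : GenOpen π χ)
    (c : Chart π B') : Chart π B where
  C := c.C
  smooth := c.smooth
  φ := c.φ.comp χ
  gen := hχ.comp c.gen

theorem Covered.map {B' : Type u} [CommRing B'] [Algebra R B'] (χ : B →ₐ[R] B')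
    (hχ : GenOpen π χ) {E : Set (B →ₐ[R] R)} {E' : Set (B' →ₐ[R] R)}
    (hE : ∀ a ∈ E, ∃ a' ∈ E', a'.comp χ = a) (hE' : Covered π B' E') : Covered π B E := by
  obtain ⟨l, hl⟩ := hE'
  refine ⟨l.map (Chart.pull χ hχ), fun a ha => ?_⟩
  obtain ⟨a', ha', rfl⟩ := hE a ha
  obtain ⟨c, hc, b, rfl⟩ := hl a' ha'
  exact ⟨Chart.pull χ hχ c, List.mem_map_of_mem hc, b, rfl⟩

/-- The chart given by a smooth localization. -/
noncomputable def Chart.away (f : B) (hf : Algebra.Smooth R (Localization.Away f)) :
    Chart π B where
  C := Localization.Away f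
  smooth := hf
  φ := IsScalarTower.toAlgHom R B (Localization.Away f)
  gen := genOpen_away π f

theorem exists_lift_away (f : B) (a : B →ₐ[R] R) (hf : IsUnit (a f)) :
    ∃ b : Localization.Away f →ₐ[R] R,
      b.comp (IsScalarTower.toAlgHom R B (Localization.Away f)) = a := by
  refine ⟨IsLocalization.Away.liftAlgHom f hf, ?_⟩
  ext x
  exact IsLocalization.Away.lift_eq f hf x

theorem Covered.of_smooth [IsNoetherianRing B] [IsLocalRing R] (E : Set (B →ₐ[R] R))
    (hE : ∀ a ∈ E, ∃ f : B, IsUnit (a f) ∧ Algebra.Smooth R (Localization.Away f)) :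
    Covered π B E := by
  let S : Set B := {f | Algebra.Smooth R (Localization.Away f)}
  obtain ⟨T, hTS, hT⟩ := (Submodule.fg_span_iff_fg_span_finset_subset S).1
    (IsNoetherian.noetherian (Submodule.span B S))
  refine ⟨T.toList.pmap (fun f hf => Chart.away f hf)
    (fun f hf => hTS (Finset.mem_toList.1 hf)), fun a ha => ?_⟩
  obtain ⟨f, hf, hf'⟩ := hE a ha
  have h1 : ∃ g ∈ T, IsUnit (a g) := by
    by_contra hcon
    push Not at hcon
    have h2 : Submodule.span B (T : Set B) ≤ (IsLocalRing.maximalIdeal R).comap a := by
      rw [Submodule.span_le]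
      intro g hg
      exact hcon g hg
    rw [← hT] at h2
    exact h2 (Submodule.subset_span hf') hf
  obtain ⟨g, hg, hg'⟩ := h1
  obtain ⟨b, hb⟩ := exists_lift_away g a hg'
  refine ⟨Chart.away g (hTS hg), ?_, b, hb⟩
  rw [List.mem_pmap]
  exact ⟨g, Finset.mem_toList.2 hg, rfl⟩

theorem formallySmooth_loc (hB : Algebra.FormallySmooth R (Localization.Away (algebraMap R B π)))
    (η : B) : Algebra.FormallySmooth R (Loc π η) := by
  let S := Localization.Away (algebraMap R B π)
  let T := Localization.Away (algebraMap B S η)
  have h1 : IsLocalization.Away (algebraMap R B π * η) T :=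
    IsLocalization.Away.mul' S T (algebraMap R B π) η
  have h2 : Algebra.FormallySmooth S T :=
    .of_isLocalization (Submonoid.powers (algebraMap B S η))
  have h3 : Algebra.FormallySmooth R T := .comp R S T
  let e : T ≃ₐ[B] Loc π η := IsLocalization.algEquiv
    (Submonoid.powers (algebraMap R B π * η)) _ _
  exact .of_equiv (e.restrictScalars R)

theorem formallySmooth_dil {c : Type}
    (hB : Algebra.FormallySmooth R (Localization.Away (algebraMap R B π)))
    (η : B) (z : c → B) :
    Algebra.FormallySmooth R (Localization.Away (algebraMap R (Dil π η z) π)) := by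
  have h1 := formallySmooth_loc hB η
  let e : Loc π η ≃ₐ[Dil π η z] Localization.Away (algebraMap R (Dil π η z) π) :=
    IsLocalization.algEquiv (Submonoid.powers (algebraMap R (Dil π η z) π)) _ _
  exact .of_equiv (e.restrictScalars R)

variable [IsDomain R] [IsDiscreteValuationRing R]

/-- The statement that points with vanishing defect of smoothness are smooth. -/
def Beta (R : Type u) [CommRing R] [IsDomain R] [IsDiscreteValuationRing R] (π : R) : Prop :=
  ∀ (B : Type u) [CommRing B] [Algebra R B] [Algebra.FiniteType R B],
    Algebra.FormallySmooth R (Localization.Away (algebraMap R B π)) →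
    ∀ a : B →ₐ[R] R, tlen R (Cot a) = 0 →
      ∃ f : B, IsUnit (a f) ∧ Algebra.Smooth R (Localization.Away f)

theorem covered_of_le (hπ : Irreducible π) (beta : Beta R π) (N : ℕ) :
    ∀ (B : Type u) [CommRing B] [Algebra R B] [Algebra.FiniteType R B],
      Algebra.FormallySmooth R (Localization.Away (algebraMap R B π)) →
      Covered π B {a : B →ₐ[R] R | tlen R (Cot a) ≤ N} := by
  induction N with
  | zero =>
    intro B _ _ _ hB
    have : IsNoetherianRing B := Algebra.FiniteType.isNoetherianRing R B
    refine Covered.of_smooth _ fun a ha => beta B hB a ?_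
    have ha' : tlen R (Cot a) ≤ ((0 : ℕ) : ℕ∞) := ha
    exact le_antisymm ha' zero_le
  | succ N ih =>
    intro B _ _ _ hB
    obtain ⟨n, φ, hφ⟩ := Algebra.FiniteType.iff_quotient_mvPolynomial''.1
      (inferInstance : Algebra.FiniteType R B)
    let E : Set (B →ₐ[R] R) := {a | tlen R (Cot a) = ((N + 1 : ℕ) : ℕ∞)}
    have hcl : ∀ 𝔟 : Ideal (MvPolynomial (Fin n) R),
        Covered π B {a | a ∈ E ∧ ∀ f ∈ 𝔟, π ∣ a (φ f)} := by
      intro 𝔟
      induction 𝔟 using WellFoundedGT.induction with
      | ind 𝔟 hind =>
        let F : Set (B →ₐ[R] R) := {a | a ∈ E ∧ ∀ f ∈ 𝔟, π ∣ a (φ f)}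
        by_cases hF : F = ∅
        · change Covered π B F
          rw [hF]
          exact Covered.empty
        -- the ideal of functions vanishing at all specializations
        let 𝔠 : Ideal (MvPolynomial (Fin n) R) :=
          ⨅ a ∈ F, (Ideal.span {π}).comap (a.comp φ)
        have hmem𝔠 : ∀ f, f ∈ 𝔠 ↔ ∀ a ∈ F, π ∣ a (φ f) := by
          intro f
          simp only [𝔠, Ideal.mem_iInf, Ideal.mem_comap, Ideal.mem_span_singleton]
          rfl
        have h𝔟𝔠 : 𝔟 ≤ 𝔠 := fun f hf => (hmem𝔠 f).2 fun a ha => ha.2 f hf
        rcases h𝔟𝔠.lt_or_eq with hlt | heq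
        · refine (hind 𝔠 hlt).mono ?_
          intro a ha
          exact ⟨ha.1, fun f hf => (hmem𝔠 f).1 hf a ha⟩
        · -- now `𝔟 = 𝔠` is radical
          have hmem𝔟 : ∀ f, f ∈ 𝔟 ↔ ∀ a ∈ F, π ∣ a (φ f) := by rw [heq]; exact hmem𝔠
          have hπp : Prime π := hπ.prime
          obtain ⟨a₀, ha₀⟩ := Set.nonempty_iff_ne_empty.2 hF
          have h𝔟top : 𝔟 ≠ ⊤ := by
            intro h
            have h1 : (1 : MvPolynomial (Fin n) R) ∈ 𝔟 := h ▸ trivial
            have h2 := ha₀.2 1 h1
            rw [map_one, map_one] at h2
            exact hπ.not_isUnit (isUnit_of_dvd_one h2)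
          have hnt : Nontrivial (MvPolynomial (Fin n) R ⧸ 𝔟) := Ideal.Quotient.nontrivial_iff.2 h𝔟top
          obtain ⟨J, hJ⟩ := associatedPrimes.nonempty (MvPolynomial (Fin n) R)
            (MvPolynomial (Fin n) R ⧸ 𝔟)
          have hJp : J.IsPrime := hJ.isPrime
          obtain ⟨f, hf⟩ : ∃ f : MvPolynomial (Fin n) R, ∀ g, g ∈ J ↔ g * f ∈ 𝔟 := by
            obtain ⟨_, x, hx⟩ := isAssociatedPrime_iff.1 hJ
            obtain ⟨f, rfl⟩ := Ideal.Quotient.mk_surjective x
            refine ⟨f, fun g => ?_⟩
            have h1 : g • (Ideal.Quotient.mk 𝔟 f) = Ideal.Quotient.mk 𝔟 (g * f) := rfl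
            rw [hx, Submodule.mem_colon_singleton, Submodule.mem_bot, h1,
              Ideal.Quotient.eq_zero_iff_mem]
          have hfJ : f ∉ J := by
            intro h
            have h1 : f * f ∈ 𝔟 := (hf f).1 h
            have h2 : f ∈ 𝔟 := by
              rw [hmem𝔟] at h1 ⊢
              intro a ha
              have := h1 a ha
              rw [map_mul, map_mul] at this
              exact (hπp.dvd_or_dvd this).elim id id
            apply hJp.ne_top
            rw [Ideal.eq_top_iff_one, hf, one_mul]
            exact h2
          let E₁ : Set (B →ₐ[R] R) := {a | a ∈ F ∧ ¬ π ∣ a (φ f)}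
          have hE₁J : ∀ a ∈ E₁, ∀ g ∈ J, π ∣ a (φ g) := by
            intro a ha g hg
            have h1 := ha.1.2 _ ((hf g).1 hg)
            rw [map_mul, map_mul] at h1
            exact (hπp.dvd_or_dvd h1).resolve_right ha.2
          have hdense : ∀ g, (∀ a ∈ E₁, π ∣ a (φ g)) → g ∈ J := by
            intro g hg
            rw [hf, hmem𝔟]
            intro a ha
            rw [map_mul, map_mul]
            by_cases h : π ∣ a (φ f)
            · exact Dvd.dvd.mul_left h _
            · exact Dvd.dvd.mul_right (hg a ⟨ha, h⟩) _
          have hIJ : RingHom.ker φ ≤ J := by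
            intro g hg
            apply hdense
            intro a _
            have : φ g = 0 := hg
            rw [this, map_zero]
            exact dvd_zero π
          obtain ⟨h, hhJ, c, e, z, g, δ, ε, hzJ, hgI, hδ, hε, hJ₀, hI₀⟩ :=
            GenCoord2.exists_coord hπ J (hdense _ fun a _ => by
                have : a (φ (MvPolynomial.C π)) = π :=
                  (a.comp φ).commutes π
                rw [this]) (RingHom.ker φ) hIJ ((fun a : B →ₐ[R] R => a.comp φ) '' E₁)
              (by
                rintro _ ⟨a, _, rfl⟩ g hg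
                have : φ g = 0 := hg
                rw [AlgHom.comp_apply, this, map_zero])
              (by
                rintro _ ⟨a, ha, rfl⟩ g hg
                exact hE₁J a ha g hg)
              (fun g hg => hdense g fun a ha => hg _ ⟨a, ha, rfl⟩)
          -- the part `f h` vanishes
          have hlt : 𝔟 < 𝔟 ⊔ Ideal.span {f * h} := by
            refine lt_of_le_of_ne le_sup_left fun heq' => ?_
            have h1 : f * h ∈ 𝔟 := by
              rw [heq']
              exact (le_sup_right : Ideal.span {f * h} ≤ 𝔟 ⊔ Ideal.span {f * h})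
                (Ideal.mem_span_singleton_self _)
            rw [mul_comm, ← hf] at h1
            exact hhJ h1
          have hcov₁ := hind _ hlt
          -- the dilatation
          let B' := Dil π (φ h) (fun j => φ (z j))
          have hB' := formallySmooth_dil hB (φ h) (fun j => φ (z j))
          have hcov₂ : Covered π B {a | a ∈ F ∧ ¬ π ∣ a (φ (f * h))} := by
            refine Covered.map (chi π (φ h) (fun j => φ (z j)))
              (genOpen_chi π (φ h) (fun j => φ (z j))) ?_ (ih B' hB')
            rintro a ⟨haF, ha⟩
            rw [map_mul, map_mul] at ha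
            have haf : ¬ π ∣ a (φ f) := fun h' => ha (Dvd.dvd.mul_right h' _)
            have hah : ¬ π ∣ a (φ h) := fun h' => ha (Dvd.dvd.mul_left h' _)
            have haE₁ : a ∈ E₁ := ⟨haF, haf⟩
            have hunit : IsUnit (a (φ h)) := by
              by_contra hnu
              have h1 : a (φ h) ∈ IsLocalRing.maximalIdeal R := hnu
              rw [hπ.maximalIdeal_eq, Ideal.mem_span_singleton] at h1
              exact hah h1
            obtain ⟨a', ha'⟩ := exists_lift π (φ h) (fun j => φ (z j)) hπ.ne_zero a hunit
              (fun j => hE₁J a haE₁ _ (hzJ j))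
            refine ⟨a', ?_, AlgHom.ext ha'⟩
            have hfin := Bound.finite_cot (a.comp φ)
            have hdrop : tlen R (Cot a') < tlen R (Cot a) :=
              drop hπ φ hφ (chi π (φ h) (fun j => φ (z j))) a' a (a.comp φ) (fun _ => rfl) ha'
                (fun x hx => Bound.torsionfree hπ.ne_zero (a.comp φ) x hx) h hunit z
                (w π (φ h) (fun j => φ (z j))) (pi_mul_w π (φ h) (fun j => φ (z j)))
                δ (fun i j => by
                  have h1 := hE₁J a haE₁ _ (hδ i j)
                  have h2 : a (φ (if i = j then h else 0))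
                      = if i = j then (a.comp φ) h else 0 := by
                    split_ifs <;> simp
                  rw [map_sub, map_sub, h2] at h1
                  exact h1)
                g (fun j => hgI j)
                ε (fun i j => by
                  have h1 := hE₁J a haE₁ _ (hε i j)
                  have h2 : a (φ (if i = j then h else 0))
                      = if i = j then (a.comp φ) h else 0 := by
                    split_ifs <;> simp
                  rw [map_sub, map_sub, h2] at h1
                  exact h1)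
                (fun g hg => hJ₀ g (hIJ hg)) (fun g hg => hI₀ g hg)
                (pi_regular π (φ h) _)
                (fun g hg => by
                  obtain ⟨m, hm⟩ := exists_of_chi_eq_zero π (φ h) _ (φ g) hg
                  refine ⟨m, m, ?_⟩
                  rw [map_mul, map_mul, map_pow, map_pow, AlgHom.commutes]
                  exact hm)
                (fun y => by
                  obtain ⟨m, x, hx⟩ := exists_mul_eq π (φ h) _ y
                  obtain ⟨g, rfl⟩ := hφ x
                  exact ⟨m, m, g, hx⟩)
                (by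
                  have h1 := adjoin_eq_top π (φ h) (fun j => φ (z j))
                  have h2 : Set.range (fun x => chi π (φ h) (fun j => φ (z j)) (φ x))
                      = Set.range (chi π (φ h) (fun j => φ (z j))) := by
                    ext y
                    constructor
                    · rintro ⟨x, rfl⟩
                      exact ⟨φ x, rfl⟩
                    · rintro ⟨x, rfl⟩
                      obtain ⟨x, rfl⟩ := hφ x
                      exact ⟨x, rfl⟩
                  rw [h2]
                  exact h1)
                (by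
                  have h1 : tlen R (Cot a) = ((N + 1 : ℕ) : ℕ∞) := haF.1
                  rw [h1]
                  exact Nat.cast_ne_zero.2 (Nat.succ_ne_zero N))
            have h1 : tlen R (Cot a) = ((N + 1 : ℕ) : ℕ∞) := haF.1
            rw [h1] at hdrop
            change tlen R (Cot a') ≤ (N : ℕ∞)
            exact Order.le_of_lt_add_one (by exact_mod_cast hdrop)
          refine (hcov₂.union hcov₁).mono ?_
          intro a ha
          by_cases h1 : π ∣ a (φ (f * h))
          · refine Or.inr ⟨ha.1, fun g hg => ?_⟩
            have h2 : 𝔟 ⊔ Ideal.span {f * h} ≤ (Ideal.span {π}).comap (a.comp φ) := by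
              refine sup_le (fun x hx => ?_) ?_
              · exact Ideal.mem_span_singleton.2 (ha.2 x hx)
              · rw [Ideal.span_le, Set.singleton_subset_iff]
                exact Ideal.mem_span_singleton.2 h1
            exact Ideal.mem_span_singleton.1 (h2 hg)
          · exact Or.inl ⟨ha, h1⟩
    refine ((ih B hB).union (hcl ⊥)).mono ?_
    intro a ha
    have ha' : tlen R (Cot a) ≤ ((N + 1 : ℕ) : ℕ∞) := ha
    rcases ha'.lt_or_eq with hlt | heq
    · left
      change tlen R (Cot a) ≤ (N : ℕ∞)
      exact Order.le_of_lt_add_one (by exact_mod_cast hlt)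
    · right
      refine ⟨heq, fun f hf => ?_⟩
      rw [Ideal.mem_bot] at hf
      rw [hf, map_zero, map_zero]
      exact dvd_zero π

/-- **Néron smoothening** (modulo the smoothness criterion `Beta`). -/
theorem smoothening_of_beta (hπ : Irreducible π) (beta : Beta R π) (B : Type u) [CommRing B]
    [Algebra R B] [Algebra.FiniteType R B]
    (hB : Algebra.FormallySmooth R (Localization.Away (algebraMap R B π))) :
    Covered π B (Set.univ : Set (B →ₐ[R] R)) := by
  obtain ⟨n, φ, hφ⟩ := Algebra.FiniteType.iff_quotient_mvPolynomial''.1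
    (inferInstance : Algebra.FiniteType R B)
  obtain ⟨C, hC⟩ := Bound.exists_bound hπ hB φ hφ
  exact (covered_of_le hπ beta C B hB).mono fun a _ => hC a

end Groth.Agent.Sga7.H113.Main
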